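import Mathlib
import Cfsg.Prelude.Def_KGroupFacts
import Cfsg.Agent.KFacts.RgdNodes
import Cfsg.Agent.KFacts.RgdSyl
import Cfsg.Agent.KFacts.SylFix

/-!
# The order of the outer automorphism group of a group with a root group datum

* `exists_diag_conj` : modulo inner automorphisms every automorphism is a frame automorphism (`Diag T X β σ`);
* `exists_conj_of_diag` : an inner frame automorphism fixing all nodes is a conjugation by an element of `T`;
* `card_out_mul` : `|Out Y| * |T| = |A0|` if `Y` has trivial centre and all diagram symmetries are trivial, where `A0` is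
  the group of the frame automorphisms fixing all nodes;
* `card_out_rel` : `|Out Y| * |T| = |Γ| * |kernel|` for a surjection `A0 → Γ` given by a relation.
-/

set_option autoImplicit false
set_option linter.unusedSectionVars false

namespace Cfsg.Agent.H69.OutCount

open CoxeterSystem Cfsg.Agent.ChevalleyStructure.CoxeterGeom Cfsg.Agent.Tits.Roots Cfsg.Agent.Tits.Core
  Cfsg.Agent.Tits.Exchange Cfsg.Agent.Nodes.Reps Cfsg.Agent.Nodes.BNOf Cfsg.Agent.Nodes.StabComb
  Cfsg.Agent.Nodes.Bruhat Cfsg.Agent.Nodes.OppDec Cfsg.Agent.Nodes.LeviDec Cfsg.Agent.Nodes.NormalForm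
  Cfsg.Agent.KFacts.RgdOpp Cfsg.Agent.KFacts.RgdAut Cfsg.Agent.KFacts.RgdDiag Cfsg.Agent.KFacts.RgdRigid
  Cfsg.Agent.KFacts.RgdField

universe u v

/-! ### Counting in general -/

/-- If every automorphism is inner times an element of `A0`, and the inner automorphisms in `A0` are the conjugations by
the elements of `T`, then `|Out Y| * |T| = |A0|`. -/
theorem card_out_of {Y : Type u} [Group Y] [Finite Y] (hZ : Subgroup.center Y = ⊥) {A0 : Subgroup (MulAut Y)}
    {T : Subgroup Y} (h1 : ∀ α : MulAut Y, ∃ g : Y, MulAut.conj g * α ∈ A0)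
    (h2 : ∀ g : Y, MulAut.conj g ∈ A0 ↔ g ∈ T) : Nat.card (Cfsg.Out Y) * Nat.card ↥T = Nat.card ↥A0 := by
  have hsup : A0 ⊔ Cfsg.Inn Y = ⊤ := by
    rw [eq_top_iff]
    intro α _
    obtain ⟨g, hg⟩ := h1 α
    have e : α = (MulAut.conj g)⁻¹ * (MulAut.conj g * α) := by group
    rw [e]
    exact mul_mem (inv_mem ((le_sup_right : Cfsg.Inn Y ≤ _) ⟨g, rfl⟩)) ((le_sup_left : A0 ≤ _) hg)
  have hinf : A0 ⊓ Cfsg.Inn Y = T.map (MulAut.conj : Y →* MulAut Y) := by
    ext α
    constructor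
    · rintro ⟨ha, g, rfl⟩
      exact ⟨g, (h2 g).1 ha, rfl⟩
    · rintro ⟨g, hg, rfl⟩
      exact ⟨(h2 g).2 hg, g, rfl⟩
  have hinj : Function.Injective (MulAut.conj : Y →* MulAut Y) := by
    rw [← MonoidHom.ker_eq_bot_iff, eq_bot_iff, ← hZ]
    intro g hg
    rw [Subgroup.mem_center_iff]
    intro y
    have h3 := DFunLike.congr_fun (MonoidHom.mem_ker.1 hg) y
    rw [MulAut.conj_apply, MulAut.one_apply] at h3
    calc y * g = (g * y * g⁻¹) * g := by rw [h3]
      _ = g * y := by group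
  have hcard : Nat.card ↥(T.map (MulAut.conj : Y →* MulAut Y)) = Nat.card ↥T :=
    (Nat.card_congr (Subgroup.equivMapOfInjective T _ hinj).toEquiv).symm
  have h3 : Nat.card (Cfsg.Out Y) = (Cfsg.Inn Y).relIndex A0 := by
    have h4 : (Cfsg.Inn Y).relIndex (A0 ⊔ Cfsg.Inn Y) = (Cfsg.Inn Y).relIndex A0 := Subgroup.relIndex_sup_right A0 _
    rw [hsup, Subgroup.relIndex_top_right] at h4
    rw [← h4]
    rfl
  have h4 : Nat.card ↥((Cfsg.Inn Y).subgroupOf A0) = Nat.card ↥T := by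
    rw [← hcard, ← hinf]
    refine Nat.card_congr
      { toFun := fun x => ⟨x.1.1, x.1.2, x.2⟩
        invFun := fun x => ⟨⟨x.1, x.2.1⟩, x.2.2⟩
        left_inv := fun x => rfl
        right_inv := fun x => rfl }
  rw [h3, ← h4, mul_comm]
  exact Subgroup.card_mul_index ((Cfsg.Inn Y).subgroupOf A0)

/-- Counting a group through a relation which is a homomorphism onto `Γ`. -/
theorem card_of_rel {A : Type u} [Group A] {Γ : Type v} [Group Γ] {A0 : Subgroup A} {Rel : A → Γ → Prop}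
    (hex : ∀ β ∈ A0, ∃ τ, Rel β τ) (hmem : ∀ β τ, Rel β τ → β ∈ A0)
    (huniq : ∀ β τ τ', Rel β τ → Rel β τ' → τ = τ') (hmul : ∀ β τ β' τ', Rel β τ → Rel β' τ' → Rel (β * β') (τ * τ'))
    (hsurj : ∀ τ, ∃ β, Rel β τ) : Nat.card ↥A0 = Nat.card Γ * Nat.card {β : A // Rel β 1} := by
  choose f hf using fun β : ↥A0 => hex β.1 β.2
  let F : ↥A0 →* Γ := MonoidHom.mk' f fun a b => huniq _ _ _ (hf (a * b)) (hmul _ _ _ _ (hf a) (hf b))
  have hF : Function.Surjective F := by
    intro τ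
    obtain ⟨β, hβ⟩ := hsurj τ
    exact ⟨⟨β, hmem _ _ hβ⟩, huniq _ _ _ (hf ⟨β, hmem _ _ hβ⟩) hβ⟩
  have h1 : Nat.card ↥F.ker = Nat.card {β : A // Rel β 1} := by
    refine Nat.card_congr
      { toFun := fun x => ⟨x.1.1, ?_⟩
        invFun := fun x => ⟨⟨x.1, hmem _ _ x.2⟩, ?_⟩
        left_inv := fun x => rfl
        right_inv := fun x => rfl }
    · have h2 : f x.1 = 1 := MonoidHom.mem_ker.1 x.2
      have h3 := hf x.1
      rwa [h2] at h3
    · rw [MonoidHom.mem_ker]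
      exact huniq _ _ _ (hf _) x.2
  have h2 := Subgroup.card_mul_index F.ker
  rw [← h2, h1, mul_comm, Subgroup.index_ker, MonoidHom.range_eq_top.2 hF]
  congr 1
  exact Nat.card_congr Subgroup.topEquiv.toEquiv

/-! ### Root group data -/

variable {I W : Type*} {Y : Type u} [Fintype I] [DecidableEq I] [Group W] [Group Y] {M : CoxeterMatrix I}
  {cs : CoxeterSystem M W} {A : I → I → ℤ} {h : IsCartan M A} {p : ℕ} {T : Subgroup Y} {n : I → Y}
  {X : (I → ℤ) → Subgroup Y}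

/-- The group of the frame automorphisms fixing all nodes. -/
def A0 (T : Subgroup Y) (X : (I → ℤ) → Subgroup Y) : Subgroup (MulAut Y) where
  carrier := {β | Diag T X β 1}
  mul_mem' ha hb := by
    have := Diag.mul ha hb
    rwa [mul_one] at this
  one_mem' := Diag.one
  inv_mem' ha := by
    have := Diag.inv ha
    rwa [inv_one] at this

theorem mem_A0 {β : MulAut Y} : β ∈ A0 T X ↔ Diag T X β 1 := Iff.rfl

section

variable (R : RGD cs h p T n X)

include R

/-- **Modulo inner automorphisms every automorphism is a frame automorphism.** -/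
theorem exists_diag_conj [Finite W] [Finite Y] [Fact p.Prime] (hG1 : RGD.Sup X {x | IsRoot cs h x} = ⊤)
    (α : MulAut Y) : ∃ (g : Y) (σ : Equiv.Perm I), Diag T X (MulAut.conj g * α) σ := by
  have hG := GG_eq_top (T := T) hG1
  have hi : ¬ p ∣ (RGD.Sup X (RGD.Pos cs h)).index := by
    have h1 := Cfsg.Agent.KFacts.RgdSyl.not_dvd_relIndex R
    rwa [hG, Subgroup.relIndex_top_right] at h1
  let P : Sylow p Y := R.isPGroup_Upos.toSylow hi
  have hP : ∀ x, x ∈ P ↔ x ∈ RGD.Sup X (RGD.Pos cs h) := fun x => Iff.rfl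
  obtain ⟨g, hg⟩ := MulAction.exists_smul_eq Y (α • P) P
  have h1 : Fix (MulAut.conj g * α) (RGD.Sup X (RGD.Pos cs h)) := by
    intro x
    rw [← hP, ← hP, MulAut.mul_apply]
    have h2 := Cfsg.Agent.KFacts.SylFix.mem_smul_iff (MulAut.conj g) (α • P) (α x)
    have h3 := Cfsg.Agent.KFacts.SylFix.mem_smul_iff α P x
    have h4 : MulAut.conj g • (α • P) = P := hg
    rw [h4] at h2
    rw [h2, h3]
  obtain ⟨u, hu, hU, -, hUN, -, -⟩ := exists_frame R hG h1
  obtain ⟨σ, D⟩ := exists_diag R hG hU hUN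
  refine ⟨u * g, σ, ?_⟩
  rwa [map_mul, mul_assoc]

/-- A frame automorphism fixing all nodes fixes `U` and `U⁻`. -/
theorem fix_of_diag [Finite W] {β : MulAut Y} (D : Diag T X β 1) :
    Fix β (RGD.Sup X (RGD.Pos cs h)) ∧ Fix β (UN cs h X) := by
  have hr : ∀ {r : I → ℤ}, IsRoot cs h r → ∀ {β : MulAut Y}, Diag T X β 1 → ∀ x, β x ∈ X r ↔ x ∈ X r := by
    intro r hr β D x
    have h1 := D.root_comp R (fun i j => rfl) hr x
    exact h1
  have key : ∀ (S : Set (I → ℤ)), (∀ r ∈ S, IsRoot cs h r) → ∀ β : MulAut Y, Diag T X β 1 →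
      ∀ x, x ∈ RGD.Sup X S → β x ∈ RGD.Sup X S := by
    intro S hS β D x hx
    have h1 : RGD.Sup X S ≤ (RGD.Sup X S).comap β.toMonoidHom :=
      RGD.Sup_le fun r hrS y hy => RGD.le_Sup hrS ((hr (hS r hrS) D y).2 hy)
    exact h1 hx
  have key2 : ∀ (S : Set (I → ℤ)), (∀ r ∈ S, IsRoot cs h r) → Fix β (RGD.Sup X S) := by
    intro S hS x
    refine ⟨fun hx => ?_, key S hS β D x⟩
    have h1 := key S hS β⁻¹ (by have := D.inv; rwa [inv_one] at this) _ hx
    rwa [MulAut.inv_apply_self] at h1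
  refine ⟨key2 _ fun r hr => hr.1, ?_⟩
  have := key2 {r | IsRoot cs h r ∧ r ≤ 0} fun r hr => hr.1
  exact this

/-- **An inner frame automorphism fixing all nodes is a conjugation by an element of `T`.** -/
theorem mem_T_of_diag [Finite W] (hG1 : RGD.Sup X {x | IsRoot cs h x} = ⊤) {g : Y}
    (D : Diag T X (MulAut.conj g) 1) : g ∈ T := by
  have hG := GG_eq_top (T := T) hG1
  obtain ⟨h1, h2⟩ := fix_of_diag R D
  have h3 : g ∈ RGD.B cs h T X := by
    rw [← normalizer_U' R hG, Subgroup.mem_normalizer_iff]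
    intro y
    rw [← MulAut.conj_apply]
    exact (h1 y).symm
  have h4 : g ∈ BN cs h T X := by
    rw [← normalizer_UN R hG, Subgroup.mem_normalizer_iff]
    intro y
    rw [← MulAut.conj_apply]
    exact (h2 y).symm
  rw [← B_inf_BN R]
  exact ⟨h3, h4⟩

/-- Conjugation by an element of the torus is a frame automorphism. -/
theorem diag_conj {t : Y} (ht : t ∈ T) : Diag T X (MulAut.conj t) 1 := by
  have key : ∀ x, IsRoot cs h x → ∀ y, MulAut.conj t y ∈ X x ↔ y ∈ X x := by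
    intro x hx y
    have h1 := R.tor x hx t ht
    constructor
    · intro hy
      rw [← h1, mem_cj, MulAut.conj_apply] at hy
      have e : t⁻¹ * (t * y * t⁻¹) * t = y := by group
      rwa [e] at hy
    · intro hy
      rw [← h1, mem_cj, MulAut.conj_apply]
      have e : t⁻¹ * (t * y * t⁻¹) * t = y := by group
      rwa [e]
  refine ⟨fun y => ?_, fun i y => ?_, fun i y => ?_⟩
  · rw [MulAut.conj_apply]
    constructor
    · intro hy
      have e : y = t⁻¹ * (t * y * t⁻¹) * t := by group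
      rw [e]
      exact mul_mem (mul_mem (inv_mem ht) hy) ht
    · intro hy
      exact mul_mem (mul_mem ht hy) (inv_mem ht)
  · exact key _ (isRoot_sr cs h i) y
  · exact key _ (isRoot_sr cs h i).neg y

/-- **`|Out Y| * |T| = |A0|`.** -/
theorem card_out_mul [Finite W] [Finite Y] [Fact p.Prime] (hG1 : RGD.Sup X {x | IsRoot cs h x} = ⊤)
    (hZ : Subgroup.center Y = ⊥) (hone : ∀ (β : MulAut Y) (σ : Equiv.Perm I), Diag T X β σ → σ = 1) :
    Nat.card (Cfsg.Out Y) * Nat.card ↥T = Nat.card ↥(A0 T X) := by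
  apply card_out_of hZ
  · intro α
    obtain ⟨g, σ, D⟩ := exists_diag_conj R hG1 α
    have h1 := hone _ _ D
    subst h1
    exact ⟨g, D⟩
  · intro g
    exact ⟨fun D => mem_T_of_diag R hG1 D, fun ht => diag_conj R ht⟩

/-- **`|Out Y| * |T| = |Γ| * |kernel|`.** -/
theorem card_out_rel [Finite W] [Finite Y] [Fact p.Prime] (hG1 : RGD.Sup X {x | IsRoot cs h x} = ⊤)
    (hZ : Subgroup.center Y = ⊥) (hone : ∀ (β : MulAut Y) (σ : Equiv.Perm I), Diag T X β σ → σ = 1)
    {Γ : Type v} [Group Γ] {Rel : MulAut Y → Γ → Prop}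
    (hex : ∀ β, Diag T X β 1 → ∃ τ, Rel β τ) (hmem : ∀ β τ, Rel β τ → Diag T X β 1)
    (huniq : ∀ β τ τ', Rel β τ → Rel β τ' → τ = τ') (hmul : ∀ β τ β' τ', Rel β τ → Rel β' τ' → Rel (β * β') (τ * τ'))
    (hsurj : ∀ τ, ∃ β, Rel β τ) :
    Nat.card (Cfsg.Out Y) * Nat.card ↥T = Nat.card Γ * Nat.card {β : MulAut Y // Rel β 1} := by
  rw [card_out_mul R hG1 hZ hone]
  exact card_of_rel (A0 := A0 T X) hex hmem huniq hmul hsurj

/-- The frame automorphisms acting by scalars on the simple root groups embed in the product of the multiplicative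
groups. -/
theorem exists_scalar [Finite W] (hG1 : RGD.Sup X {x | IsRoot cs h x} = ⊤) {K : I → Type v} [∀ i, Field (K i)]
    {x : ∀ i, K i → Y} {χ : ∀ i, Y → K i} (C : ∀ i, Coord T (X (sr i)) (x i) (χ i)) {Q : MulAut Y → Prop}
    (hQ : ∀ β, Q β → Diag T X β 1 ∧ ∀ i, ∃ c : K i, c ≠ 0 ∧ ∀ a, β (x i a) = x i (c * a)) :
    ∃ f : {β : MulAut Y // Q β} → ∀ i, (K i)ˣ, Function.Injective f ∧
      ∀ β i a, β.1 (x i a) = x i ((f β i : K i) * a) := by
  choose D c hc hx using hQ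
  let f : {β : MulAut Y // Q β} → ∀ i, (K i)ˣ := fun β i => Units.mk0 (c β.1 β.2 i) (hc β.1 β.2 i)
  have hf : ∀ β i a, β.1 (x i a) = x i ((f β i : K i) * a) := fun β i a => hx β.1 β.2 i a
  refine ⟨f, ?_, hf⟩
  intro β γ e
  apply Subtype.ext
  have h1 : Diag T X (γ.1⁻¹ * β.1) 1 := by
    have := (D γ.1 γ.2).inv.mul (D β.1 β.2)
    rwa [inv_one, mul_one] at this
  have h2 : γ.1⁻¹ * β.1 = 1 := by
    apply Diag.eq_one R hG1 h1
    intro i y hy
    obtain ⟨a, rfl⟩ := ((C i).mem y).1 hy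
    rw [MulAut.mul_apply, hf, e, ← hf γ, MulAut.inv_apply_self]
  have h3 : β.1 = γ.1 * (γ.1⁻¹ * β.1) := by group
  rw [h3, h2, mul_one]

theorem card_scalar_le [Finite W] (hG1 : RGD.Sup X {x | IsRoot cs h x} = ⊤) {K : I → Type v} [∀ i, Field (K i)]
    [∀ i, Finite (K i)]
    {x : ∀ i, K i → Y} {χ : ∀ i, Y → K i} (C : ∀ i, Coord T (X (sr i)) (x i) (χ i)) {Q : MulAut Y → Prop}
    (hQ : ∀ β, Q β → Diag T X β 1 ∧ ∀ i, ∃ c : K i, c ≠ 0 ∧ ∀ a, β (x i a) = x i (c * a)) :
    Nat.card {β : MulAut Y // Q β} ≤ ∏ i, (Nat.card (K i) - 1) := by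
  obtain ⟨f, hf, -⟩ := exists_scalar R hG1 C hQ
  have h1 := Nat.card_le_card_of_injective f hf
  rw [Nat.card_pi] at h1
  refine le_trans h1 (le_of_eq (Finset.prod_congr rfl fun i _ => ?_))
  rw [Nat.card_units]

/-- If all scalars are realised the number is exactly the product. -/
theorem card_scalar_eq [Finite W] (hG1 : RGD.Sup X {x | IsRoot cs h x} = ⊤) {K : I → Type v} [∀ i, Field (K i)]
    [∀ i, Finite (K i)]
    {x : ∀ i, K i → Y} {χ : ∀ i, Y → K i} (C : ∀ i, Coord T (X (sr i)) (x i) (χ i)) {Q : MulAut Y → Prop}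
    (hQ : ∀ β, Q β → Diag T X β 1 ∧ ∀ i, ∃ c : K i, c ≠ 0 ∧ ∀ a, β (x i a) = x i (c * a))
    (hsurj : ∀ c : ∀ i, (K i)ˣ, ∃ β, Q β ∧ ∀ i a, β (x i a) = x i ((c i : K i) * a)) :
    Nat.card {β : MulAut Y // Q β} = ∏ i, (Nat.card (K i) - 1) := by
  obtain ⟨f, hf, hfx⟩ := exists_scalar R hG1 C hQ
  have h2 : Function.Surjective f := by
    intro c
    obtain ⟨β, hβ, e⟩ := hsurj c
    refine ⟨⟨β, hβ⟩, ?_⟩
    funext i
    apply Units.ext
    have h3 := hfx ⟨β, hβ⟩ i 1
    rw [e, mul_one, mul_one] at h3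
    exact ((C i).inj h3).symm
  rw [Nat.card_congr (Equiv.ofBijective f ⟨hf, h2⟩), Nat.card_pi]
  exact Finset.prod_congr rfl fun i _ => Nat.card_units _

end

end Cfsg.Agent.H69.OutCount
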