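import Mathlib
import Cfsg.Agent.H69.CosetDef
import Cfsg.Agent.FixOdd.TwOf
import Cfsg.Agent.FixOdd.Trans
import Cfsg.Agent.S0320
import Cfsg.Agent.Tits.Opp

/-!
# Cosets of automorphisms of prime power order: groups with a split (B, N)-pair

`PCos q u` : all the elements `conj n * u` of the coset of the automorphism `u` of `K` have order a power of `q`.

`K` has a split (B, N)-pair of characteristic `p`, rank at least one:
* `not_pCos_of_odd` : `q` is not odd (two opposite chambers are swapped by an element of the coset);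
* `not_pCos_char` : `q ≠ p` (every element of the coset fixes exactly one chamber, but some element fixes two);
* `weyl` : the twisted products `w φ(w) φ²(w) ...` (`q ^ n` factors) in the Weyl group are trivial.
-/

set_option autoImplicit false
set_option linter.unusedSectionVars false

open scoped Pointwise

namespace Cfsg.Agent.H69.CosetP

open Cfsg Cfsg.Agent.LieExceptional.BNPairCore Cfsg.Agent.Tits.Core Cfsg.Agent.Tits.Core.Bldg Cfsg.Agent.Tits.OfBN
  Cfsg.Agent.Schreier.BNSch Cfsg.Agent.Tits.OppRes Cfsg.Agent.FixBN.OfBN Cfsg.Agent.FixBN.TwOfBN Cfsg.Agent.Tits.Opp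
open Cfsg.Agent.FixBN (Split HasSplit)
open Cfsg.Agent.FixOdd

variable {K : Type*} [Group K] {P : Cfsg.BNPair K} {p q : ℕ} {U : Subgroup K}

/-- the permutation of the chambers defined by an element of the coset -/
def cf {I : Type*} {M : CoxeterMatrix I} {W : Type*} [Group W] {cs : CoxeterSystem M W} {C : Type*} {Δ : Bldg cs C}
    {G : Type*} [Group G] [MulAction G C] (t : Tw Δ G) (k : G) (x : C) : C := k • t.θ x

/-- an equivariant map of the chambers is trivial -/
theorem equivariant_eq [Finite K] [Fact p.Prime] (S : Split P p U) (f : K ⧸ P.B → K ⧸ P.B)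
    (hf : ∀ (g : K) x, f (g • x) = g • f x) (x : K ⧸ P.B) : f x = x := by
  have h1 : f (QuotientGroup.mk 1) = QuotientGroup.mk 1 := by
    obtain ⟨h, hh⟩ := QuotientGroup.mk_surjective (f (QuotientGroup.mk 1))
    have h2 : h ∈ P.B := by
      apply mem_of_conj S
      intro b hb
      have h3 : (b : K) • (QuotientGroup.mk 1 : K ⧸ P.B) = QuotientGroup.mk 1 := by
        rw [smul_mk_eq]
        simpa using hb
      have h4 := hf b (QuotientGroup.mk 1)
      rw [h3, ← hh] at h4
      exact smul_mk_eq.1 h4.symm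
    rw [← hh, mk_eq]
    simpa using inv_mem h2
  induction x using QuotientGroup.induction_on with
  | _ a =>
  have h2 : (QuotientGroup.mk a : K ⧸ P.B) = a • (QuotientGroup.mk 1 : K ⧸ P.B) := by
    rw [smul_mk, mul_one]
  rw [h2, hf, h1]

theorem cf_iterate {I : Type*} {M : CoxeterMatrix I} {W : Type*} [Group W] {cs : CoxeterSystem M W} {C : Type*}
    {Δ : Bldg cs C} {G : Type*} [Group G] [MulAction G C] (t : Tw Δ G) (k : G) (n : ℕ) (g : G) (x : C) :
    (cf t k)^[n] (g • x) = ((MulAut.conj k * t.τ) ^ n : MulAut G) g • (cf t k)^[n] x := by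
  induction n with
  | zero => rfl
  | succ n ih =>
    rw [Function.iterate_succ_apply', Function.iterate_succ_apply', ih, pow_succ', MulAut.mul_apply, MulAut.mul_apply,
      MulAut.conj_apply, cf, cf, t.θ_smul, ← mul_smul, ← mul_smul, inv_mul_cancel_right]

section

variable [hN : ((P.B ⊓ P.N).subgroupOf P.N).Normal]
  {I : Type*} {M : CoxeterMatrix I} (e : I ≃ P.S) (cs : CoxeterSystem M (WP P))
  (hcs : ∀ i, cs.simple i = QuotientGroup.mk (⟨(e i : K), P.subset (e i).2⟩ : P.N))

/-- the elements of a coset of automorphisms of `q`-power order act on the building with order a power of `q` -/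
theorem exists_tw_coset [Finite K] [Fact p.Prime] (S : Split P p U) {u : MulAut K} (hu : PCos q u) :
    ∃ t : Tw (bldg P e cs hcs) K, t.τ = u ∧ ∀ k : K, ∃ n : ℕ, ∀ x, (cf t k)^[q ^ n] x = x := by
  obtain ⟨t, ht, -⟩ := FixOdd.exists_tw S e cs hcs u
  refine ⟨t, ht, fun k => ?_⟩
  obtain ⟨n, hn⟩ := hu k
  refine ⟨n, fun x => equivariant_eq S _ (fun g x => ?_) x⟩
  rw [cf_iterate, ht, hn]
  rfl

variable {e cs hcs} {t : Tw (bldg P e cs hcs) K}

theorem exists_opp_pair [Finite K] [Nonempty I] :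
    ∃ n0 : P.N, (bldg P e cs hcs).δ (QuotientGroup.mk (1 : K)) (QuotientGroup.mk (n0 : K)) = w0 cs ∧ w0 cs ≠ 1 := by
  have hI : Finite I := finite_I e
  have hC : Cox cs := inferInstance
  obtain ⟨n0, hn0⟩ := QuotientGroup.mk_surjective (w0 cs : WP P)
  refine ⟨n0, ?_, ?_⟩
  · rw [bldg_δ_mk, inv_one, one_mul, wt_of_mem P (n := n0)]
    · exact hn0
    · exact mem_C.2 ⟨1, one_mem _, 1, one_mem _, by simp⟩
  · intro h
    obtain ⟨i⟩ := ‹Nonempty I›
    have h1 := hC.len_w0_mul (cs.simple i)
    rw [h, one_mul, cs.length_one, cs.length_simple] at h1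
    omega

theorem φ_w0 [Finite K] : t.φ (w0 cs) = w0 cs := by
  have hI : Finite I := finite_I e
  have hC : Cox cs := inferInstance
  exact FixOdd.Cox.map_wJ t.φ_simple (J := Set.univ) (fun _ _ => trivial)

/-- some element of the coset maps a pair of opposite chambers to a given pair of opposite chambers -/
theorem exists_cf [Finite K] {x y x' y' : K ⧸ P.B} (h : (bldg P e cs hcs).δ x y = w0 cs)
    (h' : (bldg P e cs hcs).δ x' y' = w0 cs) : ∃ k : K, cf t k x = x' ∧ cf t k y = y' := by
  refine Tits.OfBN.trans (P := P) (t.θ x) (t.θ y) x' y' ?_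
  have h1 : (bldg P e cs hcs).δ (t.θ x) (t.θ y) = w0 cs := by rw [t.δ_θ, h, φ_w0]
  exact h1.trans h'.symm

/-- **no coset for odd `q`** -/
theorem odd_false [Finite K] [Nonempty I] (hq : Odd q) (ht : ∀ k : K, ∃ n : ℕ, ∀ x, (cf t k)^[q ^ n] x = x) :
    False := by
  have hI : Finite I := finite_I e
  have hC : Cox cs := inferInstance
  obtain ⟨n0, h0, hne⟩ := exists_opp_pair (e := e) (cs := cs) (hcs := hcs)
  obtain ⟨k, h1, h2⟩ := exists_cf (t := t) h0 (opp_symm (bldg P e cs hcs) h0)
  obtain ⟨n, hn⟩ := ht k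
  set c : K ⧸ P.B := QuotientGroup.mk (1 : K)
  set d : K ⧸ P.B := QuotientGroup.mk (n0 : K)
  have h3 : ∀ m : ℕ, (cf t k)^[2 * m + 1] c = d := by
    intro m
    induction m with
    | zero => exact h1
    | succ m ih =>
      have : 2 * (m + 1) + 1 = (2 * m + 1).succ.succ := by omega
      rw [this, Function.iterate_succ_apply', Function.iterate_succ_apply', ih, h2, h1]
  obtain ⟨m, hm⟩ := hq.pow (n := n)
  have h4 := hn c
  rw [hm, h3] at h4
  apply hne
  rw [← h0, h4]
  exact ((bldg P e cs hcs).eq_one c c).2 rfl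

/-- **the twisted products in the Weyl group** -/
theorem weyl_aux [Finite K] [Nonempty I] (ht : ∀ k : K, ∃ n : ℕ, ∀ x, (cf t k)^[q ^ n] x = x) (w : WP P) :
    ∃ n : ℕ, (fun v => w * t.φ v)^[q ^ n] 1 = 1 := by
  have hI : Finite I := finite_I e
  have hC : Cox cs := inferInstance
  obtain ⟨n0, h0, -⟩ := exists_opp_pair (e := e) (cs := cs) (hcs := hcs)
  obtain ⟨g, h1, h2⟩ := exists_cf (t := t) h0 h0
  have hwt : ∀ m : P.N, wt P (m : K) = QuotientGroup.mk m := fun m =>
    wt_of_mem P (mem_C.2 ⟨1, one_mem _, 1, one_mem _, by simp⟩)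
  -- the apartment
  have key : ∀ m m' : P.N, (QuotientGroup.mk m' : WP P) = t.φ (QuotientGroup.mk m) →
      cf t g (QuotientGroup.mk (m : K)) = QuotientGroup.mk (m' : K) := by
    intro m m' hm
    have hδ : ∀ x y, (bldg P e cs hcs).δ (cf t g x) (cf t g y) = t.φ ((bldg P e cs hcs).δ x y) := by
      intro x y
      rw [← t.δ_θ]
      exact dist_smul P g _ _
    have hw0 : (QuotientGroup.mk n0 : WP P) = w0 cs := by
      rw [← h0, bldg_δ_mk, inv_one, one_mul, hwt]
    have hd0 : ∀ a b : P.N, (bldg P e cs hcs).δ (QuotientGroup.mk (a : K)) (QuotientGroup.mk (b : K)) =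
        (QuotientGroup.mk a)⁻¹ * QuotientGroup.mk b := by
      intro a b
      rw [bldg_δ_mk]
      have := hwt (a⁻¹ * b)
      push_cast at this
      rw [this]
      rfl
    have hone : (QuotientGroup.mk (1 : P.N) : WP P) = 1 := rfl
    have hfw : ∀ v : WP P, t.φ v⁻¹ * w0 cs = t.φ (v⁻¹ * w0 cs) := by
      intro v
      rw [map_mul, φ_w0]
    refine (bldg P e cs hcs).between_unique (x := QuotientGroup.mk ((1 : P.N) : K)) (z := QuotientGroup.mk (n0 : K))
      (v := t.φ (QuotientGroup.mk m)) (w := t.φ (QuotientGroup.mk m)⁻¹ * w0 cs) ?_ ?_ ?_ ?_ ?_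
    · rw [map_inv, mul_inv_cancel_left]
      have h3 := hC.len_w0_mul (t.φ (QuotientGroup.mk m))
      have h4 : cs.length ((t.φ (QuotientGroup.mk m))⁻¹ * w0 cs) = cs.length (w0 cs * t.φ (QuotientGroup.mk m)) := by
        rw [← cs.length_inv, mul_inv_rev, inv_inv, hC.w0_inv]
      omega
    · have h3 := hδ (QuotientGroup.mk (1 : K)) (QuotientGroup.mk (m : K))
      rw [h1] at h3
      have h5 := hd0 1 m
      push_cast at h5
      rw [h5, hone, inv_one, one_mul] at h3
      exact h3
    · have h3 := hδ (QuotientGroup.mk (m : K)) (QuotientGroup.mk (n0 : K))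
      rw [h2, hd0, hw0] at h3
      rw [h3, map_mul, φ_w0]
    · rw [hd0, hone, inv_one, one_mul, hm]
    · rw [hd0, hw0, hm, map_inv]
  obtain ⟨nn, rfl⟩ := QuotientGroup.mk_surjective w
  obtain ⟨n, hn⟩ := ht ((nn : K) * g)
  refine ⟨n, ?_⟩
  have h3 : ∀ j : ℕ, ∃ m : P.N, (cf t ((nn : K) * g))^[j] (QuotientGroup.mk (1 : K)) = QuotientGroup.mk (m : K) ∧
      (QuotientGroup.mk m : WP P) = (fun v => QuotientGroup.mk nn * t.φ v)^[j] 1 := by
    intro j
    induction j with
    | zero => exact ⟨1, rfl, rfl⟩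
    | succ j ih =>
      obtain ⟨m, hm, hm'⟩ := ih
      obtain ⟨m', hm''⟩ := QuotientGroup.mk_surjective (t.φ (QuotientGroup.mk m : WP P))
      refine ⟨nn * m', ?_, ?_⟩
      · rw [Function.iterate_succ_apply', hm]
        change ((nn : K) * g) • t.θ (QuotientGroup.mk (m : K)) = _
        rw [mul_smul]
        have h4 := key m m' hm''
        change g • t.θ (QuotientGroup.mk (m : K)) = _ at h4
        rw [h4]
        rfl
      · rw [Function.iterate_succ_apply', ← hm']
        change (QuotientGroup.mk nn * QuotientGroup.mk m' : WP P) = _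
        rw [hm'']
  obtain ⟨m, hm, hm'⟩ := h3 (q ^ n)
  rw [hn, mk_eq, inv_one, one_mul] at hm
  rw [← hm', QuotientGroup.eq_one_iff, Subgroup.mem_subgroupOf]
  exact Subgroup.mem_inf.2 ⟨hm, m.2⟩

/-- the automorphism of the diagram has order a power of `q` -/
theorem sigma_pow [Finite K] (ht : ∀ k : K, ∃ n : ℕ, ∀ x, (cf t k)^[q ^ n] x = x) : ∃ n : ℕ, t.σ ^ q ^ n = 1 := by
  have hI : Finite I := finite_I e
  have hC : Cox cs := inferInstance
  obtain ⟨n, hn⟩ := ht 1
  have hδ : ∀ (m : ℕ) (x y : K ⧸ P.B), (bldg P e cs hcs).δ ((cf t 1)^[m] x) ((cf t 1)^[m] y) =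
      (⇑t.φ)^[m] ((bldg P e cs hcs).δ x y) := by
    intro m
    induction m with
    | zero => intro x y; rfl
    | succ m ih =>
      intro x y
      rw [Function.iterate_succ_apply', Function.iterate_succ_apply', Function.iterate_succ_apply', ← ih, ← t.δ_θ]
      exact dist_smul P 1 _ _
  have hs : ∀ (m : ℕ) (i : I), (⇑t.φ)^[m] (cs.simple i) = cs.simple ((t.σ ^ m : Equiv.Perm I) i) := by
    intro m
    induction m with
    | zero => intro i; rfl
    | succ m ih =>
      intro i
      rw [Function.iterate_succ_apply', ih, t.φ_simple, pow_succ', Equiv.Perm.mul_apply]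
  refine ⟨n, Equiv.ext fun i => ?_⟩
  apply hC.inj
  rw [← hs]
  obtain ⟨y, hy⟩ := (bldg P e cs hcs).exists_δ (QuotientGroup.mk (1 : K)) (cs.simple i)
  have h1 := hδ (q ^ n) (QuotientGroup.mk (1 : K)) y
  rw [hn, hn, hy] at h1
  exact h1.symm

/-! ### The characteristic -/

theorem not_dvd_card [Finite K] [hp : Fact p.Prime] (S : Split P p U) : ¬ p ∣ Nat.card (K ⧸ P.B) := by
  obtain ⟨V⟩ : Nonempty (Sylow p K) := inferInstance
  obtain ⟨x, hx⟩ := FixBN.OfBN.exists_fix S (V : Subgroup K) V.isPGroup'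
  obtain ⟨a, rfl⟩ := QuotientGroup.mk_surjective x
  have hle : (V : Subgroup K) ≤ MulAction.stabilizer K (QuotientGroup.mk a : K ⧸ P.B) := fun v hv => hx v hv
  have h1 : (MulAction.stabilizer K (QuotientGroup.mk a : K ⧸ P.B)).index = Nat.card (K ⧸ P.B) := by
    rw [MulAction.index_stabilizer]
    have : MulAction.orbit K (QuotientGroup.mk a : K ⧸ P.B) = Set.univ := MulAction.orbit_eq_univ K _
    rw [this, Set.ncard_univ]
  rw [← h1]
  intro hd
  exact V.not_dvd_index (hd.trans (Subgroup.index_dvd_of_le hle))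

theorem sum_fixed [Finite K] [Fintype K] [Fintype (K ⧸ P.B)] (t : Tw (bldg P e cs hcs) K) :
    ∑ k : K, Nat.card {x : K ⧸ P.B // cf t k x = x} = Nat.card K := by
  classical
  have h1 : ∀ k : K, Nat.card {x : K ⧸ P.B // cf t k x = x} = ∑ x : K ⧸ P.B, if cf t k x = x then 1 else 0 := by
    intro k
    rw [Nat.card_eq_fintype_card, Fintype.card_subtype, Finset.card_filter]
  simp only [h1]
  rw [Finset.sum_comm]
  have h2 : ∀ x : K ⧸ P.B, (∑ k : K, if cf t k x = x then 1 else 0) = Nat.card ↥(MulAction.stabilizer K x) := by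
    intro x
    obtain ⟨k0, hk0⟩ := MulAction.exists_smul_eq K (t.θ x) x
    rw [← Finset.card_filter, ← Fintype.card_subtype, ← Nat.card_eq_fintype_card]
    refine Nat.card_congr
      { toFun := fun k => ⟨k.1 * k0⁻¹, by
          rw [MulAction.mem_stabilizer_iff, mul_smul]
          have h3 : k0⁻¹ • x = t.θ x := inv_smul_eq_iff.2 hk0.symm
          rw [h3]
          exact k.2⟩
        invFun := fun s => ⟨s.1 * k0, by
          have h3 := s.2
          rw [MulAction.mem_stabilizer_iff] at h3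
          change (s.1 * k0) • t.θ x = x
          rw [mul_smul, hk0, h3]⟩
        left_inv := fun k => Subtype.ext (inv_mul_cancel_right _ _)
        right_inv := fun k => Subtype.ext (mul_inv_cancel_right _ _) }
  simp only [h2]
  have h3 : ∀ x : K ⧸ P.B, Nat.card ↥(MulAction.stabilizer K x) = Nat.card ↥P.B := by
    intro x
    have h4 := Subgroup.card_mul_index (MulAction.stabilizer K x)
    have h5 := Subgroup.card_mul_index P.B
    have h6 : (MulAction.stabilizer K x).index = P.B.index := by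
      rw [MulAction.index_stabilizer, MulAction.orbit_eq_univ K x, Set.ncard_univ]
      rfl
    rw [h6] at h4
    exact Nat.eq_of_mul_eq_mul_right (Nat.pos_of_ne_zero Subgroup.index_ne_zero_of_finite) (h4.trans h5.symm)
  simp only [h3]
  rw [Finset.sum_const, Finset.card_univ, smul_eq_mul, ← Nat.card_eq_fintype_card, mul_comm]
  exact Subgroup.card_mul_index P.B

/-- **no coset of automorphisms of `p`-power order in the characteristic `p`** -/
theorem char_false [Finite K] [Nonempty I] [hp : Fact p.Prime] (S : Split P p U)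
    (ht : ∀ k : K, ∃ n : ℕ, ∀ x, (cf t k)^[p ^ n] x = x) : False := by
  classical
  have hI : Finite I := finite_I e
  have hC : Cox cs := inferInstance
  have := Fintype.ofFinite K
  have := Fintype.ofFinite (K ⧸ P.B)
  obtain ⟨n0, h0, hne⟩ := exists_opp_pair (e := e) (cs := cs) (hcs := hcs)
  obtain ⟨k0, h1, h2⟩ := exists_cf (t := t) h0 h0
  have hpos : ∀ k : K, 1 ≤ Nat.card {x : K ⧸ P.B // cf t k x = x} := by
    intro k
    obtain ⟨n, hn⟩ := ht k
    let g : Function.End (K ⧸ P.B) := cf t k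
    have hg : g ^ p ^ n = 1 := by
      funext a
      have h3 : ∀ m : ℕ, (g ^ m) a = (cf t k)^[m] a := by
        intro m
        induction m with
        | zero => rfl
        | succ m ih =>
          rw [pow_succ', Function.iterate_succ_apply', ← ih]
          rfl
      rw [h3, hn]
      rfl
    have h3 := Equiv.Perm.card_fixedPoints_modEq (f := g) (p := p) (n := n) hg
    have h4 : Fintype.card (Function.fixedPoints g) = Nat.card {x : K ⧸ P.B // cf t k x = x} := by
      rw [Nat.card_eq_fintype_card]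
      exact Fintype.card_congr (Equiv.refl _)
    rw [h4] at h3
    by_contra h5
    have h6 : Nat.card {x : K ⧸ P.B // cf t k x = x} = 0 := by omega
    rw [h6, ← Nat.card_eq_fintype_card] at h3
    exact not_dvd_card S ((Nat.modEq_zero_iff_dvd).1 h3)
  have htwo : 2 ≤ Nat.card {x : K ⧸ P.B // cf t k0 x = x} := by
    have hne' : (QuotientGroup.mk (1 : K) : K ⧸ P.B) ≠ QuotientGroup.mk (n0 : K) := by
      intro h
      rw [h] at h0
      exact hne (h0.symm.trans (((bldg P e cs hcs).eq_one _ _).2 rfl))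
    have : Nontrivial {x : K ⧸ P.B // cf t k0 x = x} :=
      ⟨⟨⟨_, h1⟩, ⟨_, h2⟩, fun h => hne' (congrArg Subtype.val h)⟩⟩
    exact Finite.one_lt_card
  have hsum := sum_fixed t
  have hlt : ∑ k : K, 1 < ∑ k : K, Nat.card {x : K ⧸ P.B // cf t k x = x} :=
    Finset.sum_lt_sum (fun k _ => hpos k) ⟨k0, Finset.mem_univ _, htwo⟩
  rw [hsum, Finset.sum_const, Finset.card_univ, smul_eq_mul, mul_one, Nat.card_eq_fintype_card] at hlt
  exact lt_irrefl _ hlt

end

/-- **`q` is not odd.** -/
theorem not_pCos_of_odd [Finite K] [hp : Fact p.Prime] (h : HasSplit p K) (hq : Odd q) (u : MulAut K) :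
    ¬ PCos q u := by
  intro hu
  obtain ⟨P, U, hne, h⟩ := h
  have hN : ((P.B ⊓ P.N).subgroupOf P.N).Normal := Cfsg.Agent.Tits.OfBN.normal_subgroupOf P
  obtain ⟨M, cs, hcs⟩ := Cfsg.Agent.S0320.result P
  obtain ⟨t, -, ht⟩ := exists_tw_coset (Equiv.refl P.S) cs hcs h hu
  have hIn : Nonempty P.S := hne.to_subtype
  exact odd_false hq ht

/-- **`q` is not the characteristic.** -/
theorem not_pCos_char [Finite K] [hp : Fact p.Prime] (h : HasSplit p K) (u : MulAut K) : ¬ PCos p u := by
  intro hu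
  obtain ⟨P, U, hne, h⟩ := h
  have hN : ((P.B ⊓ P.N).subgroupOf P.N).Normal := Cfsg.Agent.Tits.OfBN.normal_subgroupOf P
  obtain ⟨M, cs, hcs⟩ := Cfsg.Agent.S0320.result P
  obtain ⟨t, -, ht⟩ := exists_tw_coset (Equiv.refl P.S) cs hcs h hu
  have hIn : Nonempty P.S := hne.to_subtype
  exact char_false h ht

/-- **The twisted products in the Weyl group.** -/
theorem weyl.{v} {K : Type v} [Group K] [Finite K] {p q : ℕ} [hp : Fact p.Prime] {I : Type*} [Nonempty I] {M : CoxeterMatrix I} {P : Cfsg.BNPair K}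
    {U : Subgroup K} {e : I ≃ P.S} (S : Split P p U) (hM : BNType P M e) {u : MulAut K} (hu : PCos q u) :
    ∃ (W : Type v) (_ : Group W) (cs : CoxeterSystem M W) (φ : W ≃* W) (σ : Equiv.Perm I), Finite W ∧
      (∀ i, φ (cs.simple i) = cs.simple (σ i)) ∧ (∃ n : ℕ, σ ^ q ^ n = 1) ∧
        ∀ w : W, ∃ n : ℕ, (fun v => w * φ v)^[q ^ n] 1 = 1 := by
  obtain ⟨hN, cs, hcs⟩ := hM
  obtain ⟨t, -, ht⟩ := exists_tw_coset e cs hcs S hu
  exact ⟨WP P, inferInstance, cs, t.φ, t.σ, inferInstance, t.φ_simple, sigma_pow (t := t) ht, fun w => weyl_aux (t := t) ht w⟩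

end Cfsg.Agent.H69.CosetP
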