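import Cfsg.Agent.PermutationGroups.MultFree
import Cfsg.Agent.Characters.Core
import Cfsg.Agent.Characters.Linear
import Cfsg.Agent.Blocks.Basic
import Cfsg.Prelude.Def_DegreeGraph

/-!
# Five character degrees from two transitive actions (helper69)
-/

set_option autoImplicit false
set_option linter.unusedSectionVars false

namespace Cfsg.Agent.H69.OctChar

open Cfsg MulAction
open Cfsg.Agent.PermutationGroups.MultFree (exists_decomp isIrr_one)

universe u

section one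

variable {G : Type u} [Group G] [Fintype G] {Ω : Type*} [Fintype Ω] [MulAction G Ω] [IsPretransitive G Ω]

/-- the constituents are small -/
theorem degree_lt (a : Ω) {χ : G → ℂ} (hχ : IsIrrCharacter G χ) (h1 : χ ≠ fun _ => 1)
    (h : classInner (fun g : G => (Nat.card (fixedBy Ω g) : ℂ)) χ ≠ 0) : charDegree χ < Nat.card Ω := by
  classical
  obtain ⟨m, hm, hone, -, hcard⟩ := exists_decomp (G := G) a
  have hmχ : m ⟨χ, hχ⟩ ≠ 0 := by
    intro h0
    apply h
    have := hm ⟨χ, hχ⟩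
    rw [h0, Nat.cast_zero] at this
    exact this
  set ψ₀ : IrrCharacter G := ⟨_, isIrr_one⟩ with hψ₀
  have hne : (⟨χ, hχ⟩ : IrrCharacter G) ≠ ψ₀ := fun h0 => h1 (congrArg Subtype.val h0)
  have hmem : (⟨χ, hχ⟩ : IrrCharacter G) ∈ m.support := Finsupp.mem_support_iff.2 hmχ
  have hmem0 : ψ₀ ∈ m.support.erase ⟨χ, hχ⟩ := Finset.mem_erase.2 ⟨hne.symm, Finsupp.mem_support_iff.2 (by
    rw [hone]; exact one_ne_zero)⟩
  have hc : (Nat.card Ω : ℂ) = ((∑ ψ ∈ m.support, m ψ * charDegree (ψ : G → ℂ) : ℕ) : ℂ) := by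
    rw [hcard]
    push_cast
    refine Finset.sum_congr rfl fun ψ _ => ?_
    rw [Blocks.Basic.irr_one_eq_charDegree ψ.2]
  have hc' : Nat.card Ω = ∑ ψ ∈ m.support, m ψ * charDegree (ψ : G → ℂ) := by exact_mod_cast hc
  rw [hc', ← Finset.add_sum_erase _ _ hmem, ← Finset.add_sum_erase _ _ hmem0]
  have h2 : charDegree χ ≤ m ⟨χ, hχ⟩ * charDegree χ := Nat.le_mul_of_pos_left _ (Nat.pos_of_ne_zero hmχ)
  have h3 : 0 < m ψ₀ * charDegree (ψ₀ : G → ℂ) :=
    Nat.mul_pos (by rw [hone]; exact one_pos) (Blocks.Basic.charDegree_pos ψ₀.2)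
  show charDegree χ < m ⟨χ, hχ⟩ * charDegree χ + _
  omega

/-- a large constituent -/
theorem exists_large (a : Ω) {r D : ℕ}
    (hr : Nat.card (orbitRel.Quotient (stabilizer G a) Ω) ≤ r + 1) (hD : r * D + 1 < Nat.card Ω) :
    ∃ χ : IrrCharacter G, D < charDegree (χ : G → ℂ) ∧ charDegree (χ : G → ℂ) < Nat.card Ω := by
  classical
  obtain ⟨m, hm, hone, hsq, hcard⟩ := exists_decomp (G := G) a
  by_contra hcon
  push Not at hcon
  set ψ₀ : IrrCharacter G := ⟨_, isIrr_one⟩ with hψ₀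
  have hmem0 : ψ₀ ∈ m.support := Finsupp.mem_support_iff.2 (by rw [hone]; exact one_ne_zero)
  have hc : (Nat.card Ω : ℂ) = ((∑ ψ ∈ m.support, m ψ * charDegree (ψ : G → ℂ) : ℕ) : ℂ) := by
    rw [hcard]
    push_cast
    refine Finset.sum_congr rfl fun ψ _ => ?_
    rw [Blocks.Basic.irr_one_eq_charDegree ψ.2]
  have hc' : Nat.card Ω = ∑ ψ ∈ m.support, m ψ * charDegree (ψ : G → ℂ) := by exact_mod_cast hc
  have h1 : charDegree (ψ₀ : G → ℂ) = 1 := Blocks.Basic.charDegree_of_eq (by simp [hψ₀])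
  rw [← Finset.add_sum_erase _ _ hmem0, hone, one_mul, h1] at hc'
  rw [← Finset.add_sum_erase _ _ hmem0, hone, one_pow] at hsq
  have h2 : ∑ ψ ∈ m.support.erase ψ₀, m ψ * charDegree (ψ : G → ℂ) ≤
      ∑ ψ ∈ m.support.erase ψ₀, m ψ ^ 2 * D := by
    refine Finset.sum_le_sum fun ψ hψ => ?_
    have h3 : classInner (fun g : G => (Nat.card (fixedBy Ω g) : ℂ)) ψ ≠ 0 := by
      rw [hm ψ, Nat.cast_ne_zero]
      exact Finsupp.mem_support_iff.1 (Finset.mem_of_mem_erase hψ)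
    have h4 := degree_lt a ψ.2 (fun h0 => Finset.ne_of_mem_erase hψ (Subtype.ext h0)) h3
    have h5 : charDegree (ψ : G → ℂ) ≤ D := by
      by_contra h6
      exact absurd (hcon ψ (not_le.1 h6)) (not_le.2 h4)
    calc m ψ * charDegree (ψ : G → ℂ) ≤ m ψ * D := Nat.mul_le_mul_left _ h5
      _ ≤ m ψ ^ 2 * D := Nat.mul_le_mul_right _ (Nat.le_self_pow two_ne_zero _)
  rw [← Finset.sum_mul] at h2
  have h3 : ∑ ψ ∈ m.support.erase ψ₀, m ψ ^ 2 ≤ r := by omega
  have h4 := Nat.mul_le_mul_right D h3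
  omega

/-- two points of the action of a coset of a transitive normal subgroup -/
theorem sum_coset (x₀ : Ω) (M : Subgroup G) (hM : IsPretransitive M Ω) [Fintype M] (g : G) :
    ∑ m : M, Nat.card (fixedBy Ω (g * (m : G))) = Nat.card M := by
  classical
  have key : ∀ x : Ω, Nat.card {m : M // (m : G) • x = g⁻¹ • x} = Nat.card (stabilizer M x) := by
    intro x
    obtain ⟨m₀, hm₀⟩ := hM.exists_smul_eq x (g⁻¹ • x)
    refine Nat.card_congr
      { toFun := fun m => ⟨m₀⁻¹ * m.1, ?_⟩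
        invFun := fun m => ⟨m₀ * m.1, ?_⟩
        left_inv := fun m => Subtype.ext (by simp)
        right_inv := fun m => Subtype.ext (by simp) }
    · rw [mem_stabilizer_iff, mul_smul, inv_smul_eq_iff, hm₀]
      exact m.2
    · have h1 : (m : M) • x = x := m.2
      show (m₀ * (m : M)) • x = g⁻¹ • x
      rw [mul_smul, h1, hm₀]
  have e1 : ∀ m : M, Nat.card (fixedBy Ω (g * (m : G))) = ∑ x : Ω, if (m : G) • x = g⁻¹ • x then 1 else 0 := by
    intro m
    rw [Finset.sum_boole, Nat.card_eq_fintype_card, Fintype.card_subtype]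
    simp only [Nat.cast_id]
    congr 1
    ext x
    simp only [Finset.mem_filter, Finset.mem_univ, true_and, mem_fixedBy]
    rw [mul_smul, eq_inv_smul_iff]
  have e2 : ∀ x : Ω, (∑ m : M, if (m : G) • x = g⁻¹ • x then 1 else 0) = Nat.card (stabilizer M x) := by
    intro x
    rw [← key x, Finset.sum_boole, Nat.card_eq_fintype_card, Fintype.card_subtype]
    rfl
  rw [Finset.sum_congr rfl fun m _ => e1 m, Finset.sum_comm, Finset.sum_congr rfl fun x _ => e2 x]
  have e3 : ∀ x : Ω, Nat.card (stabilizer M x) = Nat.card (stabilizer M x₀) := by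
    intro x
    obtain ⟨m, rfl⟩ := hM.exists_smul_eq x₀ x
    exact (Nat.card_congr (stabilizerEquivStabilizer (G := M) (g := m) (a := x₀) (b := m • x₀) rfl).toEquiv).symm
  rw [Finset.sum_congr rfl fun x _ => e3 x, Finset.sum_const, Finset.card_univ, smul_eq_mul]
  have e4 := (stabilizer M x₀).card_mul_index
  rw [index_stabilizer_of_transitive, Nat.card_eq_fintype_card (α := Ω)] at e4
  rw [mul_comm, e4]

/-- a linear constituent is principal if a perfect subgroup is transitive -/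
theorem charDegree_ne_one (a : Ω) (M : Subgroup G) (hM : IsPretransitive M Ω) (hMc : M ≤ commutator G)
    {χ : G → ℂ} (hχ : IsIrrCharacter G χ) (h1 : χ ≠ fun _ => 1)
    (h : classInner (fun g : G => (Nat.card (fixedBy Ω g) : ℂ)) χ ≠ 0) : charDegree χ ≠ 1 := by
  classical
  intro hd
  have h2 : χ 1 = 1 := by
    rw [Blocks.Basic.irr_one_eq_charDegree hχ, hd, Nat.cast_one]
  obtain ⟨f, hf⟩ := Characters.Linear.exists_hom_of_isIrrCharacter hχ h2
  have hker : ∀ m ∈ M, f m = 1 := fun m hm => by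
    have := Abelianization.commutator_subset_ker f (hMc hm)
    rwa [MonoidHom.mem_ker] at this
  have hmul : ∀ g : G, ∀ m ∈ M, χ (g * m) = χ g := by
    intro g m hm
    rw [hf]
    simp [map_mul, hker m hm]
  apply h
  have h0 : (Nat.card M : ℂ) ≠ 0 := by exact_mod_cast Nat.card_pos.ne'
  have h3 : classInner (fun _ : G => (1 : ℂ)) χ = 0 :=
    Characters.Core.classInner_irr_ne isIrr_one hχ h1.symm
  have key : (Nat.card M : ℂ) * ∑ g : G, (Nat.card (fixedBy Ω g) : ℂ) * (starRingEnd ℂ) (χ g) =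
      (Nat.card M : ℂ) * ∑ g : G, 1 * (starRingEnd ℂ) (χ g) := by
    have e1 : ∀ m : M, ∑ g : G, (Nat.card (fixedBy Ω g) : ℂ) * (starRingEnd ℂ) (χ g) =
        ∑ g : G, (Nat.card (fixedBy Ω (g * (m : G))) : ℂ) * (starRingEnd ℂ) (χ g) := by
      intro m
      rw [← _root_.Equiv.sum_comp (_root_.Equiv.mulRight (m : G))]
      refine Finset.sum_congr rfl fun g _ => ?_
      rw [_root_.Equiv.coe_mulRight, hmul g m m.2]
    have e2 : (Nat.card M : ℂ) * ∑ g : G, (Nat.card (fixedBy Ω g) : ℂ) * (starRingEnd ℂ) (χ g) =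
        ∑ m : M, ∑ g : G, (Nat.card (fixedBy Ω (g * (m : G))) : ℂ) * (starRingEnd ℂ) (χ g) := by
      rw [← Finset.sum_congr rfl fun m _ => e1 m, Finset.sum_const, Finset.card_univ, nsmul_eq_mul,
        Nat.card_eq_fintype_card]
    rw [e2, Finset.sum_comm, Finset.mul_sum]
    refine Finset.sum_congr rfl fun g _ => ?_
    rw [← Finset.sum_mul, one_mul]
    congr 1
    rw [← sum_coset a M hM g]
    push_cast
    rfl
  have h4 := mul_left_cancel₀ h0 key
  rw [Characters.Core.classInner_def] at h3 ⊢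
  rw [h4, h3]

end one

/-- **Five degrees.** -/
theorem five {G : Type u} [Group G] [Finite G] (M : Subgroup G) (hMc : M ≤ commutator G)
    {Ω₁ Ω₂ : Type*} [Finite Ω₁] [Finite Ω₂] [MulAction G Ω₁] [MulAction G Ω₂]
    (hM₁ : IsPretransitive M Ω₁) (hT₂ : IsPretransitive G Ω₂) (a₁ : Ω₁) (a₂ : Ω₂) {r Q : ℕ}
    (hr : Nat.card (orbitRel.Quotient (stabilizer G a₂) Ω₂) ≤ r + 1)
    (hsub : ∀ f : ℕ, ∃ b : Ω₁, b ≠ a₁ ∧ Nat.card (orbit (stabilizer G a₁) b) ≠ f)
    (h12 : r * Nat.card Ω₁ + 1 < Nat.card Ω₂ + r) (h2Q : Nat.card Ω₂ ≤ Q)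
    (hQ : Q ∈ charDegrees G) : 5 ≤ (charDegrees G).ncard := by
  classical
  have : Fintype G := Fintype.ofFinite G
  have : Fintype Ω₁ := Fintype.ofFinite Ω₁
  have : Fintype Ω₂ := Fintype.ofFinite Ω₂
  have hT₁ : IsPretransitive G Ω₁ := ⟨fun x y => by
    obtain ⟨m, hm⟩ := hM₁.exists_smul_eq x y
    exact ⟨m, hm⟩⟩
  have hn₁ : 0 < Nat.card Ω₁ := Nat.card_pos_iff.2 ⟨⟨a₁⟩, inferInstance⟩
  -- the large degree
  obtain ⟨χ₂, hχ₂, hχ₂'⟩ := exists_large (G := G) a₂ (r := r) (D := Nat.card Ω₁ - 1) hr (by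
    have : r * (Nat.card Ω₁ - 1) + r = r * Nat.card Ω₁ := by
      rw [← Nat.mul_succ, Nat.succ_eq_add_one, Nat.sub_add_cancel hn₁]
    omega)
  -- two small degrees
  have hex : ∃ α : IrrCharacter G, (α : G → ℂ) ≠ (fun _ => 1) ∧
      classInner (fun g : G => (Nat.card (fixedBy Ω₁ g) : ℂ)) α ≠ 0 ∧
      ∃ β : IrrCharacter G, (β : G → ℂ) ≠ (fun _ => 1) ∧
      classInner (fun g : G => (Nat.card (fixedBy Ω₁ g) : ℂ)) β ≠ 0 ∧
      charDegree (α : G → ℂ) ≠ charDegree (β : G → ℂ) := by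
    by_contra hcon
    push Not at hcon
    have hall : ∃ f : ℕ, ∀ χ : G → ℂ, IsIrrCharacter G χ → χ ≠ (fun _ => 1) →
        classInner (fun g : G => (Nat.card (fixedBy Ω₁ g) : ℂ)) χ ≠ 0 → χ 1 = f := by
      by_cases h : ∃ α : IrrCharacter G, (α : G → ℂ) ≠ (fun _ => 1) ∧
          classInner (fun g : G => (Nat.card (fixedBy Ω₁ g) : ℂ)) α ≠ 0
      · obtain ⟨α, hα1, hα2⟩ := h
        refine ⟨charDegree (α : G → ℂ), fun χ hχ h1 h2 => ?_⟩
        rw [Blocks.Basic.irr_one_eq_charDegree hχ, hcon α hα1 hα2 ⟨χ, hχ⟩ h1 h2]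
      · push Not at h
        exact ⟨0, fun χ hχ h1 h2 => absurd (h ⟨χ, hχ⟩ h1) h2⟩
    obtain ⟨f, hf⟩ := hall
    obtain ⟨b, hb, hbf⟩ := hsub f
    exact hbf ((PermutationGroups.MultFree.main_a a₁ f hf).2 b hb)
  obtain ⟨α, hα1, hα2, β, hβ1, hβ2, hne⟩ := hex
  have hα3 := degree_lt a₁ α.2 hα1 hα2
  have hβ3 := degree_lt a₁ β.2 hβ1 hβ2
  have hα4 := charDegree_ne_one a₁ M hM₁ hMc α.2 hα1 hα2
  have hβ4 := charDegree_ne_one a₁ M hM₁ hMc β.2 hβ1 hβ2
  have hα5 := Blocks.Basic.charDegree_pos α.2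
  have hβ5 := Blocks.Basic.charDegree_pos β.2
  have h1mem : 1 ∈ charDegrees G := ⟨⟨_, isIrr_one⟩, Blocks.Basic.charDegree_of_eq (by simp)⟩
  have hfin : (charDegrees G).Finite := by
    have : Finite (IrrCharacter G) := Characters.Core.finite_irr
    exact Set.finite_range fun χ : IrrCharacter G => charDegree (χ : G → ℂ)
  have hsubset : (({1, charDegree (α : G → ℂ), charDegree (β : G → ℂ), charDegree (χ₂ : G → ℂ), Q} : Finset ℕ) : Set ℕ) ⊆
      charDegrees G := by
    intro x hx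
    simp only [Finset.coe_insert, Finset.coe_singleton, Set.mem_insert_iff, Set.mem_singleton_iff] at hx
    rcases hx with rfl | rfl | rfl | rfl | rfl
    · exact h1mem
    · exact ⟨α, rfl⟩
    · exact ⟨β, rfl⟩
    · exact ⟨χ₂, rfl⟩
    · exact hQ
  have hle := Set.ncard_le_ncard hsubset hfin
  rw [Set.ncard_coe_finset] at hle
  have h5 : ({1, charDegree (α : G → ℂ), charDegree (β : G → ℂ), charDegree (χ₂ : G → ℂ), Q} : Finset ℕ).card = 5 := by
    rw [Finset.card_insert_of_notMem, Finset.card_insert_of_notMem, Finset.card_insert_of_notMem,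
      Finset.card_insert_of_notMem, Finset.card_singleton]
    · simp only [Finset.mem_singleton]; omega
    · simp only [Finset.mem_insert, Finset.mem_singleton]; omega
    · simp only [Finset.mem_insert, Finset.mem_singleton]; omega
    · simp only [Finset.mem_insert, Finset.mem_singleton]; omega
  omega

end Cfsg.Agent.H69.OctChar
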