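import Cfsg.Agent.H69.OctFive
import Cfsg.Agent.H69.OctTwF
import Cfsg.Agent.H691.StExt

/-!
# Groups with socle `²F₄(q)` have at least five character degrees (helper69, task 556 of helper638)
-/

set_option autoImplicit false
set_option linter.unusedSectionVars false

namespace Cfsg.Agent.H69.OctMain

open Cfsg Cfsg.Agent.Tits.Core Cfsg.Agent.Tits.Core.Bldg Cfsg.Agent.Tits.Exchange Cfsg.Agent.Tits
open Cfsg.Agent.FixBN Cfsg.Agent.Tits.OfBN Cfsg.Agent.Schreier.BNSch
open MulAction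

universe u

/-- transport of a node -/
theorem node_map {K L : Type*} [Group K] [Group L] (e : K ≃* L) {P : Cfsg.BNPair K} {U V : Subgroup K} {s : K}
    (hV : Node P U s V) : Node (Transport.mapBN e P) (U.map e.toMonoidHom) (e s) (V.map e.toMonoidHom) := by
  refine ⟨Subgroup.map_mono hV.le, ?_, ?_, ?_, ?_⟩
  · obtain ⟨u, hu, huV⟩ := hV.ne
    refine ⟨e u, ⟨u, hu, rfl⟩, ?_⟩
    rw [Subgroup.mem_map_equiv]
    simpa using huV
  · intro b hb v hv
    change b ∈ P.B.map e.toMonoidHom at hb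
    rw [Subgroup.mem_map_equiv] at hb hv ⊢
    have := hV.conj_B _ hb _ hv
    simpa using this
  · intro v hv
    rw [Subgroup.mem_map_equiv] at hv ⊢
    have := hV.conj_s _ hv
    simpa using this
  · intro u hu h
    change (e s)⁻¹ * u * e s ∈ P.B.map e.toMonoidHom at h
    rw [Subgroup.mem_map_equiv] at hu h ⊢
    exact hV.stab _ hu (by simpa using h)

section panel

variable {K : Type*} [Group K] {P : Cfsg.BNPair K} {p : ℕ} {U : Subgroup K}
variable [hN : ((P.B ⊓ P.N).subgroupOf P.N).Normal]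
variable {I : Type*} {M : CoxeterMatrix I} (e : I ≃ P.S) (cs : CoxeterSystem M (WP P))
  (hcs : ∀ i, cs.simple i = QuotientGroup.mk (⟨(e i : K), P.subset (e i).2⟩ : P.N))

/-- the size of a panel -/
theorem card_pan [Finite K] [Fact p.Prime] (S : Split P p U) {i : I} {V : Subgroup K} (hV : Node P U (e i) V)
    (x : K ⧸ P.B) : Nat.card ((bldg P e cs hcs).Pan i x) = V.relIndex U + 1 := by
  have hfI : Finite I := FixBN.OfBN.finite_I e
  set Δ := bldg P e cs hcs with hΔ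
  set Sy := FixBN.OfBN.sys e cs hcs S with hSy
  set c : K ⧸ P.B := QuotientGroup.mk 1 with hc
  have h0 : Nat.card (Δ.Pan i x) = Nat.card (Δ.Pan i c) := by
    obtain ⟨g, rfl⟩ : ∃ g : K, g • c = x := by
      induction x using QuotientGroup.induction_on with
      | H g => exact ⟨g, by rw [hc, FixBN.OfBN.smul_mk, mul_one]⟩
    have f1 : ∀ y ∈ Δ.Pan i (g • c), g⁻¹ • y ∈ Δ.Pan i c := by
      rintro y (h | h)
      · exact Or.inl (by rw [h, inv_smul_smul])
      · right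
        rw [← Sy.iso g c, smul_inv_smul, h]
    have f2 : ∀ y ∈ Δ.Pan i c, g • y ∈ Δ.Pan i (g • c) := by
      rintro y (h | h)
      · exact Or.inl (by rw [h])
      · right
        rw [Sy.iso g c, h]
    exact Nat.card_congr
      { toFun := fun y : ↥(Δ.Pan i (g • c)) => (⟨g⁻¹ • y, f1 y y.2⟩ : ↥(Δ.Pan i c))
        invFun := fun y : ↥(Δ.Pan i c) => (⟨g • y, f2 y y.2⟩ : ↥(Δ.Pan i (g • c)))
        left_inv := fun y => Subtype.ext (smul_inv_smul g (y : K ⧸ P.B))
        right_inv := fun y => Subtype.ext (inv_smul_smul g (y : K ⧸ P.B)) }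
  rw [h0]
  set y₀ : K ⧸ P.B := QuotientGroup.mk (e i : K) with hy₀
  have hδ : Δ.δ c y₀ = cs.simple i := by
    rw [hΔ, hc, hy₀, bldg_δ_mk, inv_one, one_mul, hcs i]
    apply wt_of_mem
    exact DoubleCoset.mem_doubleCoset_self _ _ _
  have horb : {y | Δ.δ c y = cs.simple i} = orbit U y₀ := by
    ext y
    constructor
    · intro hy
      obtain ⟨u, hu, huy⟩ := Sy.exists_move (hδ.trans (Eq.symm hy))
      have h1 : u ∈ FixBN.OfBN.UU P U (QuotientGroup.mk 1) := hu
      rw [FixBN.OfBN.mem_UU S, inv_one, one_mul, mul_one] at h1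
      exact ⟨⟨u, h1⟩, huy⟩
    · rintro ⟨u, rfl⟩
      show Δ.δ c ((u : K) • y₀) = cs.simple i
      have h1 : (u : K) • c = c := by
        rw [hc, FixBN.OfBN.smul_mk_eq, inv_one, one_mul, mul_one]
        exact S.le u.2
      rw [← hδ, ← Sy.iso (u : K) c y₀, h1]
  have hst : stabilizer U y₀ = V.subgroupOf U := by
    ext u
    rw [mem_stabilizer_iff, Subgroup.mem_subgroupOf]
    show (u : K) • y₀ = y₀ ↔ _
    rw [hy₀, FixBN.OfBN.smul_mk_eq]
    exact ⟨fun h => hV.stab u u.2 h, fun h => S.le (hV.le (hV.conj_s u h))⟩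
  have h1 := index_stabilizer (G := U) y₀
  rw [hst, ← horb] at h1
  have h2 : Δ.Pan i c = insert c {y | Δ.δ c y = cs.simple i} := rfl
  have h3 : c ∉ {y | Δ.δ c y = cs.simple i} := by
    intro h5
    have h6 : Δ.δ c c = cs.simple i := h5
    rw [(Δ.eq_one c c).2 rfl] at h6
    have := cs.length_simple i
    rw [← h6, cs.length_one] at this
    exact absurd this (by decide)
  rw [h2, Nat.card_coe_set_eq, Set.ncard_insert_of_notMem h3 (Set.toFinite _), ← h1]
  rfl

end panel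

/-- **Groups with socle `²F₄(q)`.** -/
theorem five_2F4 {G : Type u} [Group G] [Finite G] (M : Subgroup G) (hM : M.Normal)
    (_hc : Subgroup.centralizer (M : Set G) = ⊥) (h : Cfsg.Lie.Iso2F4 M) : 5 ≤ (Cfsg.charDegrees G).ncard := by
  classical
  have := hM
  obtain ⟨F, _, _, m, hm, hF, ⟨e⟩⟩ := h
  have : Fact (Nat.Prime 2) := ⟨Nat.prime_two⟩
  obtain ⟨hsimp, hna⟩ := Cfsg.Agent.S1072.result hm hF
  have hsM : IsSimpleGroup ↥M := e.isSimpleGroup
  have hnaM : ¬ IsMulCommutative ↥M := by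
    intro hcm
    apply hna
    refine ⟨⟨fun x y => ?_⟩⟩
    apply e.symm.injective
    rw [map_mul, map_mul]
    exact hcm.is_comm.comm _ _
  obtain ⟨Q, UE, s, t, V, V', hsp, hS, hrel, nV, nV', iV, iV', cU, cT⟩ := OctTwF.exists_pair (K := F) hm hF
  set q := 2 ^ (2 * m + 1) with hq
  have hq8 : 8 ≤ q := by
    rw [hq]
    calc 8 = 2 ^ 3 := by norm_num
      _ ≤ 2 ^ (2 * m + 1) := Nat.pow_le_pow_right (by norm_num) (by omega)
  have hspl := Transport.split e.symm Q hsp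
  set P := Transport.mapBN e.symm Q with hP
  have hPS : P.S = {e.symm s, e.symm t} := by
    show e.symm '' Q.S = _
    rw [hS, Set.image_pair]
  have hN : ((P.B ⊓ P.N).subgroupOf P.N).Normal := normal_subgroupOf P
  obtain ⟨Mx, cs, hcs⟩ := S0320.result P
  have hI : Finite P.S := OfBN.finite_I (Equiv.refl P.S)
  set Δ := bldg P (Equiv.refl P.S) cs hcs with hΔ
  let Sy : Sys Δ ↥M 2 := FixBN.OfBN.sys (Equiv.refl P.S) cs hcs hspl
  have hth : Δ.Thick := thick P (Equiv.refl P.S) cs hcs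
  obtain ⟨A⟩ := Omega.ML.LieRow.exists_hact Sy hth
    (fun τ => UGT.U2.FOne.exists_mv hspl (Equiv.refl P.S) cs hcs τ)
  set c : ↥M ⧸ P.B := QuotientGroup.mk 1 with hc
  have hsS : e.symm s ∈ P.S := by rw [hPS]; exact Set.mem_insert _ _
  have htS : e.symm t ∈ P.S := by rw [hPS]; exact Set.mem_insert_of_mem _ rfl
  -- the panels
  have hU1 : Nat.card ↥(UE.map e.symm.toMonoidHom) = q ^ 12 := by
    rw [← cU]
    exact Nat.card_congr (UE.equivMapOfInjective _ e.symm.injective).symm.toEquiv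
  have hr1 : ∀ V : Subgroup ↥(Lie.twistedF4 F (2 ^ m)),
      (V.map e.symm.toMonoidHom).relIndex (UE.map e.symm.toMonoidHom) = V.relIndex UE := fun V =>
    Subgroup.relIndex_map_map_of_injective V UE e.symm.injective
  have hpj : ∀ x, Nat.card (Δ.Pan ⟨e.symm s, hsS⟩ x) = q + 1 := fun x => by
    have h1 := card_pan (Equiv.refl P.S) cs hcs hspl (i := ⟨e.symm s, hsS⟩) (node_map e.symm nV) x
    rw [hr1, iV] at h1
    exact h1
  have hpi : ∀ x, Nat.card (Δ.Pan ⟨e.symm t, htS⟩ x) = q ^ 2 + 1 := fun x => by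
    have h1 := card_pan (Equiv.refl P.S) cs hcs hspl (i := ⟨e.symm t, htS⟩) (node_map e.symm nV') x
    rw [hr1, iV'] at h1
    exact h1
  have hII : ∀ k : P.S, k = ⟨e.symm t, htS⟩ ∨ k = ⟨e.symm s, hsS⟩ := by
    rintro ⟨x, hx⟩
    have hx' : x ∈ P.S := hx
    rw [hPS] at hx'
    rcases hx' with h | h
    · exact Or.inr (Subtype.ext h)
    · exact Or.inl (Subtype.ext h)
  have h16 : Nat.card (WP P) = 16 := by
    rw [← hrel]
    have h1 : P.B ⊓ P.N = (Q.B ⊓ Q.N).map e.symm.toMonoidHom := by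
      show Q.B.map e.symm.toMonoidHom ⊓ Q.N.map e.symm.toMonoidHom = _
      rw [Subgroup.map_inf _ _ _ e.symm.injective]
    have h2 : P.N = Q.N.map e.symm.toMonoidHom := rfl
    rw [← Subgroup.relIndex_map_map_of_injective (f := e.symm.toMonoidHom) (Q.B ⊓ Q.N) Q.N e.symm.injective, ← h1, ← h2]
    rfl
  -- the number of chambers
  have hcB : Nat.card Q.B = q ^ 12 * (q - 1) ^ 2 := by
    rw [← cU, ← cT]
    have h1 : Subgroup.IsComplement' (UE.subgroupOf Q.B) ((Q.B ⊓ Q.N).subgroupOf Q.B) := by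
      refine Subgroup.isComplement'_of_disjoint_and_mul_eq_univ ?_ ?_
      · rw [disjoint_iff, eq_bot_iff]
        rintro x ⟨hx1, hx2⟩
        obtain ⟨k, hk, hk'⟩ := hsp.tor
        have h3 := hk' x x.2 (Subgroup.mem_subgroupOf.1 hx2).2
        obtain ⟨l, hl⟩ := hsp.isP ⟨_, Subgroup.mem_subgroupOf.1 hx1⟩
        have h4 : ((x : Q.B) : ↥(Lie.twistedF4 F (2 ^ m))) ^ 2 ^ l = 1 := congrArg Subtype.val hl
        have h5 := Nat.dvd_gcd (orderOf_dvd_of_pow_eq_one h3) (orderOf_dvd_of_pow_eq_one h4)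
        have h6 : Nat.gcd k (2 ^ l) = 1 :=
          Nat.Coprime.pow_right l (Nat.coprime_comm.1 ((Nat.Prime.coprime_iff_not_dvd Nat.prime_two).2 hk))
        rw [h6, Nat.dvd_one, orderOf_eq_one_iff] at h5
        exact Subtype.ext h5
      · rw [Set.eq_univ_iff_forall]
        intro b
        obtain ⟨u, hu, hun⟩ := hsp.cover b b.2
        refine Set.mem_mul.2 ⟨⟨u, hsp.le hu⟩, hu, ⟨u, hsp.le hu⟩⁻¹ * b, ?_, by group⟩
        exact Subgroup.mem_subgroupOf.2 ⟨SetLike.coe_mem _, hun⟩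
    have h2 := h1.card_mul_card
    have h3 : Nat.card (UE.subgroupOf Q.B) = Nat.card UE :=
      Nat.card_congr (Subgroup.subgroupOfEquivOfLe hsp.le).toEquiv
    have h4 : Nat.card ((Q.B ⊓ Q.N).subgroupOf Q.B) = Nat.card ↥(Q.B ⊓ Q.N) :=
      Nat.card_congr (Subgroup.subgroupOfEquivOfLe inf_le_left).toEquiv
    rw [h3, h4] at h2
    exact h2.symm
  have hC : Nat.card (↥M ⧸ P.B) = (1 + q) * (1 + q ^ 2) * ((1 + q ^ 3) * (1 + q ^ 6)) := by
    have h1 := P.B.card_mul_index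
    have h2 : Nat.card P.B = Nat.card Q.B :=
      (Nat.card_congr (Q.B.equivMapOfInjective _ e.symm.injective).toEquiv).symm
    have h3 : Nat.card M = Nat.card ↥(Lie.twistedF4 F (2 ^ m)) := Nat.card_congr e.toEquiv
    rw [h2, hcB, h3, Cfsg.Agent.S1068.result hF, ← hq, Subgroup.index_eq_card] at h1
    have hpos : 0 < q ^ 12 * (q - 1) ^ 2 := by
      have : 0 < q - 1 := by omega
      positivity
    apply Nat.eq_of_mul_eq_mul_left hpos
    rw [h1]
    obtain ⟨a, ha⟩ : ∃ a, q = a + 1 := ⟨q - 1, by omega⟩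
    have h4 : q ^ 4 - 1 = (q - 1) * ((1 + q) * (1 + q ^ 2)) := by
      rw [ha]
      simp only [Nat.add_sub_cancel]
      apply Nat.sub_eq_of_eq_add
      ring
    rw [h4]
    ring
  have hUc : Nat.card (Sy.U c) = q ^ 12 := by
    rw [← hU1]
    have h1 : Sy.U c = UE.map e.symm.toMonoidHom := by
      ext u
      show u ∈ FixBN.OfBN.UU P (UE.map e.symm.toMonoidHom) (QuotientGroup.mk 1) ↔ _
      rw [FixBN.OfBN.mem_UU hspl, inv_one, one_mul, mul_one]
    rw [h1]
  have hQ : q ^ 12 ∈ charDegrees G := by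
    obtain ⟨χ, h1, -, h2⟩ := H691.StExt.exists_ext M (p := 2) ⟨P, _, ⟨_, hsS⟩, hspl⟩
    refine ⟨⟨χ, h1⟩, Blocks.Basic.charDegree_of_eq ?_⟩
    show χ 1 = ((q ^ 12 : ℕ) : ℂ)
    have Z : Sylow 2 ↥M := default
    rw [h2 Z]
    -- the order of a Sylow subgroup
    have h3 : Nat.card Z = q ^ 12 := by
      obtain ⟨c', hc'⟩ := Sy.exists_fix Z Z.isPGroup'
      have hZ : (Z : Subgroup ↥M) = Sy.U c' := (Z.is_maximal' (Sy.isP c') (Sy.max c' Z Z.isPGroup' hc')).symm
      obtain ⟨g, hg⟩ := Omega.ML.LieRow.exists_smul_top Sy hth c c'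
      have h4 : Sy.U c' = (Sy.U c).map (MulAut.conj g).toMonoidHom := by
        ext x
        rw [Subgroup.mem_map_equiv, MulAut.conj_symm_apply, ← hg]
        have e1 : g * (g⁻¹ * x * g) * g⁻¹ = x := by group
        have h5 : g * (g⁻¹ * x * g) * g⁻¹ ∈ Sy.U (g • c) ↔ g⁻¹ * x * g ∈ Sy.U c := Sy.conj_mem_U_iff
        rwa [e1] at h5
      show Nat.card (Z : Subgroup ↥M) = q ^ 12
      rw [hZ, h4, ← hUc]
      exact (Nat.card_congr ((Sy.U c).equivMapOfInjective _ (MulAut.conj g).injective).toEquiv).symm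
    rw [h3]
  have := Fintype.ofFinite (WP P)
  exact OctFive.five Sy A hth hnaM hII hq8 hpi hpj h16 hC c hUc hQ

end Cfsg.Agent.H69.OctMain
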