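import Mathlib
import Cfsg.Agent.H69.CosetDef
import Cfsg.Agent.ClassicalGeometry.AutPSL.Main

/-!
# Cosets of `2`-elements in the automorphism group of `PSL₂(q)`, `q` odd

`psl_two_core` : if `u` is an outer automorphism of `PSL₂(F)`, `|F| ≥ 4` odd, all of whose multiples by inner
automorphisms have order a power of `2`, then `|F| = 3 ^ 2 ^ l` with `l ≥ 1`.
-/

set_option autoImplicit false

namespace Cfsg.Agent.H69.CosetP

open Matrix
open Cfsg.Agent.ClassicalGeometry.AutPSL.Root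
open Cfsg.Agent.ClassicalGeometry.AutPSL.Auto
open Cfsg.Agent.ClassicalGeometry.AutPSL.Main

section Gen

variable {ι F : Type*} [Fintype ι] [DecidableEq ι] [Field F]

/-- the image of a matrix under a field automorphism -/
def mf (σ : F ≃+* F) : GL ι F →* GL ι F := Matrix.GeneralLinearGroup.map (σ : F →+* F)

theorem coe_mf (σ : F ≃+* F) (A : GL ι F) : (mf σ A : Matrix ι ι F) = (A : Matrix ι ι F).map σ := rfl

theorem fld_mul_cj (σ : F ≃+* F) (A : GL ι F) : fld σ * cj A = cj (mf σ A) * fld σ := by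
  apply MulEquiv.ext
  intro g
  apply Subtype.ext
  rw [MulAut.mul_apply, MulAut.mul_apply, coe_cj]
  have h1 : ∀ g : Matrix.SpecialLinearGroup ι F, (fld σ g : Matrix ι ι F) = (g : Matrix ι ι F).map (σ : F →+* F) :=
    fun g => rfl
  rw [h1, h1, coe_cj, Matrix.map_mul, Matrix.map_mul, ← map_inv]
  rfl

theorem pow_cj_fld (σ : F ≃+* F) (A : GL ι F) (m : ℕ) :
    ∃ B : GL ι F, (cj A * fld σ) ^ m = cj B * fld (σ ^ m) := by
  induction m with
  | zero => exact ⟨1, by rw [pow_zero, pow_zero, map_one, map_one, one_mul]⟩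
  | succ m ih =>
    obtain ⟨B, hB⟩ := ih
    refine ⟨B * mf (σ ^ m) A, ?_⟩
    rw [pow_succ, hB, pow_succ, map_mul, map_mul, mul_assoc (cj B), ← mul_assoc (fld (σ ^ m)), fld_mul_cj]
    simp only [mul_assoc]

theorem lift_cj_coe (C : Matrix.SpecialLinearGroup ι F) (c : Fˣ) (A B : GL ι F)
    (h : (B : Matrix ι ι F) = (c : F) • ((C : Matrix ι ι F) * (A : Matrix ι ι F))) (σ : F ≃+* F) :
    lift (cj B * fld σ) = MulAut.conj (pr C) * lift (cj A * fld σ) := by
  have hB : ((B⁻¹ : GL ι F) : Matrix ι ι F) = ((c⁻¹ : Fˣ) : F) • (((A⁻¹ : GL ι F) : Matrix ι ι F) *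
      ((C⁻¹ : Matrix.SpecialLinearGroup ι F) : Matrix ι ι F)) := by
    have h1 : ((c⁻¹ : Fˣ) : F) • (((A⁻¹ : GL ι F) : Matrix ι ι F) *
      ((C⁻¹ : Matrix.SpecialLinearGroup ι F) : Matrix ι ι F)) * (B : Matrix ι ι F) = 1 := by
      rw [h, smul_mul_smul_comm, ← Units.val_mul, inv_mul_cancel, Units.val_one, one_smul, mul_assoc,
        ← mul_assoc (((C⁻¹ : Matrix.SpecialLinearGroup ι F)) : Matrix ι ι F), ← Matrix.SpecialLinearGroup.coe_mul,
        inv_mul_cancel, Matrix.SpecialLinearGroup.coe_one, one_mul, ← Units.val_mul, inv_mul_cancel, Units.val_one]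
    have h2 := congrArg (fun X => X * ((B⁻¹ : GL ι F) : Matrix ι ι F)) h1
    simp only [one_mul] at h2
    rw [mul_assoc, ← Units.val_mul, mul_inv_cancel, Units.val_one, mul_one] at h2
    exact h2.symm
  apply MulEquiv.ext
  intro x
  obtain ⟨x, rfl⟩ := pr_surjective x
  rw [MulAut.mul_apply, lift_pr, lift_pr, MulAut.conj_apply, ← map_mul, ← map_inv, ← map_mul]
  congr 1
  apply Subtype.ext
  rw [MulAut.mul_apply, MulAut.mul_apply, coe_cj, hB, h, Matrix.SpecialLinearGroup.coe_mul,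
    Matrix.SpecialLinearGroup.coe_mul, coe_cj, smul_mul_assoc, smul_mul_smul_comm, ← Units.val_mul, mul_inv_cancel,
    Units.val_one, one_smul]
  simp only [mul_assoc]

end Gen

theorem three_of_dvd {q a b : ℕ} (h1 : q + 1 ∣ 2 ^ a) (h2 : q - 1 ∣ 2 ^ b) (hq : 3 ≤ q) : q = 3 := by
  obtain ⟨i, -, hi⟩ := (Nat.dvd_prime_pow Nat.prime_two).1 h1
  obtain ⟨j, -, hj⟩ := (Nat.dvd_prime_pow Nat.prime_two).1 h2
  rcases Nat.lt_or_ge j 2 with hj2 | hj2
  · have : j = 0 ∨ j = 1 := by omega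
    rcases this with rfl | rfl
    · rw [pow_zero] at hj; omega
    · rw [pow_one] at hj; omega
  · exfalso
    obtain ⟨j', rfl⟩ := Nat.exists_eq_add_of_le hj2
    have hi2 : 2 ≤ i := by
      by_contra hcon
      have : i = 0 ∨ i = 1 := by omega
      rcases this with rfl | rfl
      · rw [pow_zero] at hi; omega
      · rw [pow_one] at hi; omega
    obtain ⟨i', rfl⟩ := Nat.exists_eq_add_of_le hi2
    rw [pow_add] at hi hj
    omega

section Two

variable {F : Type*} [Field F]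

/-- diagonal matrices of determinant one -/
def dg : Fˣ →* Matrix.SpecialLinearGroup (Fin 2) F where
  toFun s := ⟨!![(s : F), 0; 0, ((s⁻¹ : Fˣ) : F)], by rw [Matrix.det_fin_two_of]; simp⟩
  map_one' := by
    apply Subtype.ext
    change !![((1 : Fˣ) : F), 0; 0, ((1⁻¹ : Fˣ) : F)] = 1
    rw [inv_one, Units.val_one, Matrix.one_fin_two]
  map_mul' s t := by
    apply Subtype.ext
    change !![((s * t : Fˣ) : F), 0; 0, (((s * t)⁻¹ : Fˣ) : F)] =
      !![(s : F), 0; 0, ((s⁻¹ : Fˣ) : F)] * !![(t : F), 0; 0, ((t⁻¹ : Fˣ) : F)]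
    rw [Matrix.mul_fin_two]
    simp [mul_comm]

theorem coe_dg (s : Fˣ) : (dg s : Matrix (Fin 2) (Fin 2) F) = !![(s : F), 0; 0, ((s⁻¹ : Fˣ) : F)] := rfl

theorem pow_of_pr_dg {s : Fˣ} {k : ℕ} (h : (pr (dg s)) ^ 2 ^ k = 1) : s ^ 2 ^ (k + 1) = 1 := by
  rw [← map_pow, ← map_pow] at h
  obtain ⟨c, hc⟩ := exists_smul_of_pr_eq (x := 1) (y := dg (s ^ 2 ^ k)) (by rw [h, map_one])
  rw [coe_dg, Matrix.SpecialLinearGroup.coe_one] at hc
  have h1 := congrFun (congrFun hc 0) 0
  have h2 := congrFun (congrFun hc 1) 1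
  simp only [Matrix.of_apply, Matrix.cons_val', Matrix.cons_val_zero, Matrix.cons_val_one, Matrix.smul_apply,
    Matrix.one_apply_eq, smul_eq_mul, mul_one, Matrix.cons_val_fin_one] at h1 h2
  rw [← h1] at h2
  have h3 : (s ^ 2 ^ k)⁻¹ = s ^ 2 ^ k := Units.ext h2
  rw [pow_succ, pow_mul, pow_two]
  nth_rewrite 1 [← h3]
  exact inv_mul_cancel _

theorem fld_dg (σ : F ≃+* F) (s : Fˣ) : fld σ (dg s) = dg (Units.map (σ : F →* F) s) := by
  apply Subtype.ext
  ext i j
  rw [coe_fld_apply, coe_dg, coe_dg, ← map_inv]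
  fin_cases i <;> fin_cases j <;> simp

variable {A : GL (Fin 2) F} {σ : F ≃+* F}

/-- change of representative: determinants agree up to a square -/
theorem pcos_of_det (hu : PCos 2 (lift (cj A * fld σ))) (B : GL (Fin 2) F) (c : Fˣ)
    (h : (B : Matrix (Fin 2) (Fin 2) F).det = (c : F) ^ 2 * (A : Matrix (Fin 2) (Fin 2) F).det) :
    PCos 2 (lift (cj B * fld σ)) := by
  have hAA : (A : Matrix (Fin 2) (Fin 2) F).det * ((A⁻¹ : GL (Fin 2) F) : Matrix (Fin 2) (Fin 2) F).det = 1 := by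
    rw [← Matrix.det_mul, ← Units.val_mul, mul_inv_cancel, Units.val_one, Matrix.det_one]
  let C : Matrix.SpecialLinearGroup (Fin 2) F :=
    ⟨((c⁻¹ : Fˣ) : F) • ((B : Matrix (Fin 2) (Fin 2) F) * ((A⁻¹ : GL (Fin 2) F) : Matrix (Fin 2) (Fin 2) F)), by
      rw [Matrix.det_smul, Fintype.card_fin, Matrix.det_mul, h, mul_assoc, hAA, mul_one, ← mul_pow, ← Units.val_mul,
        inv_mul_cancel, Units.val_one, one_pow]⟩
  rw [lift_cj_coe C c A B ?_ σ]
  · exact hu.conj_mul _
  · change _ = (c : F) • (((c⁻¹ : Fˣ) : F) • ((B : Matrix (Fin 2) (Fin 2) F) *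
      ((A⁻¹ : GL (Fin 2) F) : Matrix (Fin 2) (Fin 2) F)) * (A : Matrix (Fin 2) (Fin 2) F))
    rw [smul_mul_assoc, smul_smul, ← Units.val_mul, mul_inv_cancel, Units.val_one, one_smul, mul_assoc,
      ← Units.val_mul, inv_mul_cancel, Units.val_one, mul_one]

theorem unit_of_fixed (hc : Subgroup.center (Matrix.ProjectiveSpecialLinearGroup (Fin 2) F) = ⊥)
    (hu : PCos 2 (lift (cj A * fld σ))) {s : Fˣ} (hs : σ (s : F) = s) : ∃ k : ℕ, s ^ 2 ^ k = 1 := by
  have hd : (A : Matrix (Fin 2) (Fin 2) F).det ≠ 0 := (Matrix.isUnits_det_units A).ne_zero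
  let B : GL (Fin 2) F := Matrix.GeneralLinearGroup.mkOfDetNeZero !![(A : Matrix (Fin 2) (Fin 2) F).det, 0; 0, 1]
    (by rw [Matrix.det_fin_two_of]; simpa using hd)
  have hB : (B : Matrix (Fin 2) (Fin 2) F) = !![(A : Matrix (Fin 2) (Fin 2) F).det, 0; 0, 1] := rfl
  have h1 := pcos_of_det hu B 1 (by rw [hB, Matrix.det_fin_two_of]; simp)
  have hfix : lift (cj B * fld σ) (pr (dg s)) = pr (dg s) := by
    rw [lift_pr, MulAut.mul_apply, fld_dg]
    have hs' : Units.map (σ : F →* F) s = s := Units.ext hs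
    rw [hs']
    congr 1
    apply Subtype.ext
    rw [coe_cj]
    have h2 : (B : Matrix (Fin 2) (Fin 2) F) * (dg s : Matrix (Fin 2) (Fin 2) F) =
        (dg s : Matrix (Fin 2) (Fin 2) F) * (B : Matrix (Fin 2) (Fin 2) F) := by
      rw [hB, coe_dg, Matrix.mul_fin_two, Matrix.mul_fin_two]
      simp [mul_comm]
    rw [h2, mul_assoc, ← Units.val_mul, mul_inv_cancel, Units.val_one, mul_one]
  obtain ⟨k, hk⟩ := h1.of_fixed hc hfix
  exact ⟨k + 1, pow_of_pr_dg hk⟩

theorem unit_of_inv (hc : Subgroup.center (Matrix.ProjectiveSpecialLinearGroup (Fin 2) F) = ⊥)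
    (hu : PCos 2 (lift (cj A * fld σ))) {s : Fˣ} (hs : σ (s : F) = ((s⁻¹ : Fˣ) : F)) : ∃ k : ℕ, s ^ 2 ^ k = 1 := by
  have hd : (A : Matrix (Fin 2) (Fin 2) F).det ≠ 0 := (Matrix.isUnits_det_units A).ne_zero
  let B : GL (Fin 2) F := Matrix.GeneralLinearGroup.mkOfDetNeZero !![0, (A : Matrix (Fin 2) (Fin 2) F).det; -1, 0]
    (by rw [Matrix.det_fin_two_of]; simpa using hd)
  have hB : (B : Matrix (Fin 2) (Fin 2) F) = !![0, (A : Matrix (Fin 2) (Fin 2) F).det; -1, 0] := rfl
  have h1 := pcos_of_det hu B 1 (by rw [hB, Matrix.det_fin_two_of]; simp)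
  have hfix : lift (cj B * fld σ) (pr (dg s)) = pr (dg s) := by
    rw [lift_pr, MulAut.mul_apply, fld_dg]
    have hs' : Units.map (σ : F →* F) s = s⁻¹ := Units.ext hs
    rw [hs']
    congr 1
    apply Subtype.ext
    rw [coe_cj]
    have h2 : (B : Matrix (Fin 2) (Fin 2) F) * (dg s⁻¹ : Matrix (Fin 2) (Fin 2) F) =
        (dg s : Matrix (Fin 2) (Fin 2) F) * (B : Matrix (Fin 2) (Fin 2) F) := by
      rw [hB, coe_dg, coe_dg, Matrix.mul_fin_two, Matrix.mul_fin_two]
      simp [mul_comm]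
    rw [h2, mul_assoc, ← Units.val_mul, mul_inv_cancel, Units.val_one, mul_one]
  obtain ⟨k, hk⟩ := h1.of_fixed hc hfix
  exact ⟨k + 1, pow_of_pr_dg hk⟩

theorem sigma_pow_two (hu : PCos 2 (lift (cj A * fld σ))) : ∃ k : ℕ, σ ^ 2 ^ k = 1 := by
  obtain ⟨k, hk⟩ := hu.self
  refine ⟨k, ?_⟩
  obtain ⟨B, hB⟩ := pow_cj_fld σ A (2 ^ k)
  rw [← map_pow, hB] at hk
  exact (injective_aux (τ := 1) (by rw [hk, map_one, map_one])).2

variable [Finite F]

/-- the case of a diagonal automorphism -/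
theorem diag_case {r : ℕ} [Fact r.Prime] [CharP F r] (hr : r ≠ 2)
    (hu : PCos 2 (lift (cj A * fld (1 : F ≃+* F)))) (hA : ¬ IsSquare (A : Matrix (Fin 2) (Fin 2) F).det)
    (h3 : 3 ≤ Nat.card F) : Nat.card F = 3 := by
  have hd : (A : Matrix (Fin 2) (Fin 2) F).det ≠ 0 := (Matrix.isUnits_det_units A).ne_zero
  have hF2 : ringChar F ≠ 2 := by rw [ringChar.eq F r]; exact hr
  -- products of non-squares
  have hns : ∀ B : GL (Fin 2) F, ¬ IsSquare (B : Matrix (Fin 2) (Fin 2) F).det →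
      ∃ k : ℕ, ∃ c : F, Matrix.scalar (Fin 2) c = ((B ^ 2 ^ k : GL (Fin 2) F) : Matrix (Fin 2) (Fin 2) F) := by
    intro B hB
    have hdB : (B : Matrix (Fin 2) (Fin 2) F).det ≠ 0 := (Matrix.isUnits_det_units B).ne_zero
    have h1 : IsSquare ((B : Matrix (Fin 2) (Fin 2) F).det * (A : Matrix (Fin 2) (Fin 2) F).det) := by
      have := Fintype.ofFinite F
      classical
      rw [← quadraticChar_one_iff_isSquare (mul_ne_zero hdB hd), map_mul,
        (quadraticChar_neg_one_iff_not_isSquare (F := F)).2 hB, (quadraticChar_neg_one_iff_not_isSquare (F := F)).2 hA]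
      norm_num
    obtain ⟨c, hcc⟩ := h1
    have hc0 : c ≠ 0 := by
      rintro rfl
      rw [mul_zero] at hcc
      exact mul_ne_zero hdB hd hcc
    have h2 := pcos_of_det hu B (Units.mk0 (c / (A : Matrix (Fin 2) (Fin 2) F).det) (div_ne_zero hc0 hd)) (by
      rw [Units.val_mk0, div_pow, pow_two c, ← hcc]
      field_simp)
    obtain ⟨k, hk⟩ := h2.self
    refine ⟨k, ?_⟩
    rw [map_one fld, mul_one, ← map_pow, ← map_pow] at hk
    exact (injective_aux (σ := 1) (τ := 1) (by rw [map_one, mul_one, hk, map_one])).1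
  -- a generator of the multiplicative group of the quadratic extension
  set E := FiniteField.Extension F r 2 with hE
  have : Finite E := inferInstance
  have hcardE : Nat.card E = Nat.card F ^ 2 := FiniteField.natCard_extension F r 2
  have hfin : Module.finrank F E = 2 := FiniteField.finrank_extension F r 2
  let b := Module.finBasisOfFinrankEq F E hfin
  obtain ⟨x, hx⟩ := IsCyclic.exists_generator (α := Eˣ)
  obtain ⟨y, hy⟩ : ∃ y : Fˣ, y = Units.map (Algebra.norm F : E →* F) x := ⟨_, rfl⟩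
  have hygen : ∀ z : Fˣ, z ∈ Subgroup.zpowers y := by
    intro z
    obtain ⟨w, hw⟩ := FiniteField.unitsMap_norm_surjective F E z
    obtain ⟨j, hj⟩ := Subgroup.mem_zpowers_iff.1 (hx w)
    refine Subgroup.mem_zpowers_iff.2 ⟨j, ?_⟩
    rw [hy, ← map_zpow, hj]
    exact hw
  have hyns : ¬ IsSquare (y : F) := by
    rintro ⟨c, hcy⟩
    have hc0 : c ≠ 0 := by
      rintro rfl
      rw [mul_zero] at hcy
      exact y.ne_zero hcy
    obtain ⟨j, hj⟩ := Subgroup.mem_zpowers_iff.1 (hygen (Units.mk0 _ hd))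
    apply hA
    have h1 : y = Units.mk0 c hc0 * Units.mk0 c hc0 := Units.ext hcy
    refine ⟨((Units.mk0 c hc0 ^ j : Fˣ) : F), ?_⟩
    rw [← Units.val_mul, ← mul_zpow, ← h1, hj, Units.val_mk0]
  have hq1 : ∃ k, Nat.card F - 1 ∣ 2 ^ k := by
    let B : GL (Fin 2) F := Matrix.GeneralLinearGroup.mkOfDetNeZero !![(y : F), 0; 0, 1]
      (by rw [Matrix.det_fin_two_of]; simp)
    have hB : (B : Matrix (Fin 2) (Fin 2) F) = !![(y : F), 0; 0, 1] := rfl
    obtain ⟨k, c, hk⟩ := hns B (by rw [hB, Matrix.det_fin_two_of]; simpa using hyns)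
    refine ⟨k, ?_⟩
    have hpow : ∀ m : ℕ, ((B ^ m : GL (Fin 2) F) : Matrix (Fin 2) (Fin 2) F) = !![(y : F) ^ m, 0; 0, 1] := by
      intro m
      induction m with
      | zero => rw [pow_zero, pow_zero, Units.val_one, Matrix.one_fin_two]
      | succ m ih =>
        rw [pow_succ, Units.val_mul, ih, hB, Matrix.mul_fin_two]
        simp [pow_succ]
    rw [hpow] at hk
    have h1 := congrFun (congrFun hk 0) 0
    have h2 := congrFun (congrFun hk 1) 1
    simp only [Matrix.scalar_apply, Matrix.diagonal_apply_eq, Matrix.of_apply, Matrix.cons_val', Matrix.cons_val_zero,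
      Matrix.cons_val_one, Matrix.cons_val_fin_one] at h1 h2
    have h4 : y ^ 2 ^ k = 1 := by
      apply Units.ext
      rw [Units.val_pow_eq_pow_val, ← h1, h2, Units.val_one]
    rw [← Nat.card_units, ← orderOf_eq_card_of_forall_mem_zpowers hygen]
    exact orderOf_dvd_of_pow_eq_one h4
  have hq2 : ∃ k, Nat.card F + 1 ∣ 2 ^ k := by
    let B : GL (Fin 2) F := Units.map (Algebra.leftMulMatrix b : E →* Matrix (Fin 2) (Fin 2) F) x
    have hB : (B : Matrix (Fin 2) (Fin 2) F) = Algebra.leftMulMatrix b (x : E) := rfl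
    obtain ⟨k, c, hk⟩ := hns B (by
      rw [hB, ← Algebra.norm_eq_matrix_det, show Algebra.norm F (x : E) = (y : F) by rw [hy]; rfl]
      exact hyns)
    refine ⟨k, ?_⟩
    rw [Units.val_pow_eq_pow_val, hB, ← map_pow] at hk
    have h1 : (x : E) ^ 2 ^ k = algebraMap F E c := by
      apply Algebra.leftMulMatrix_injective b
      rw [← hk, AlgHom.commutes]
      rfl
    have hc0 : c ≠ 0 := by
      rintro rfl
      rw [map_zero] at h1
      exact pow_ne_zero _ x.ne_zero h1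
    have h2 : x ^ (2 ^ k * (Nat.card F - 1)) = 1 := by
      apply Units.ext
      rw [Units.val_pow_eq_pow_val, pow_mul, h1, ← map_pow, Units.val_one]
      have h4 : c ^ (Nat.card F - 1) = 1 := by
        have := Fintype.ofFinite F
        rw [Nat.card_eq_fintype_card]
        exact FiniteField.pow_card_sub_one_eq_one c hc0
      rw [h4, map_one]
    have h5 := orderOf_dvd_of_pow_eq_one h2
    rw [orderOf_eq_card_of_forall_mem_zpowers hx, Nat.card_units, hcardE] at h5
    have h6 : Nat.card F ^ 2 - 1 = (Nat.card F + 1) * (Nat.card F - 1) := by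
      have := Nat.sq_sub_sq (Nat.card F) 1
      rwa [one_pow] at this
    rw [h6] at h5
    exact Nat.dvd_of_mul_dvd_mul_right (by omega) h5
  obtain ⟨a, ha⟩ := hq1
  obtain ⟨a', ha'⟩ := hq2
  exact three_of_dvd ha' ha h3

/-- the fixed field of an automorphism -/
theorem card_fixed (τ : F ≃+* F) :
    Nat.card F = Nat.card (FixedPoints.subfield (Subgroup.zpowers τ) F) ^ orderOf τ := by
  have : Finite (F ≃+* F) := Finite.of_injective (fun f : F ≃+* F => (f : F → F)) DFunLike.coe_injective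
  have := Fintype.ofFinite (Subgroup.zpowers τ)
  rw [← Nat.card_zpowers, Nat.card_eq_fintype_card (α := Subgroup.zpowers τ),
    ← FixedPoints.finrank_eq_card (Subgroup.zpowers τ) F]
  exact Module.natCard_eq_pow_finrank

omit [Finite F] in
theorem mem_fixed {τ : F ≃+* F} {x : F} : x ∈ FixedPoints.subfield (Subgroup.zpowers τ) F ↔ τ x = x := by
  constructor
  · intro h
    exact h ⟨τ, Subgroup.mem_zpowers τ⟩
  · rintro h ⟨g, hg⟩
    obtain ⟨j, rfl⟩ := Subgroup.mem_zpowers_iff.1 hg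
    change (τ ^ j) x = x
    have h1 : ∀ n : ℕ, (τ ^ n) x = x := by
      intro n
      induction n with
      | zero => rfl
      | succ n ih => rw [pow_succ, RingAut.mul_apply, h, ih]
    obtain ⟨n, rfl | rfl⟩ := Int.eq_nat_or_neg j
    · rw [zpow_natCast]; exact h1 n
    · rw [_root_.zpow_neg, zpow_natCast]
      have h2 : (τ ^ n)⁻¹ ((τ ^ n) x) = (τ ^ n)⁻¹ x := by rw [h1 n]
      rw [← RingAut.mul_apply, inv_mul_cancel] at h2
      exact h2.symm

/-- the case of a field automorphism -/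
theorem field_case (hc : Subgroup.center (Matrix.ProjectiveSpecialLinearGroup (Fin 2) F) = ⊥)
    (hu : PCos 2 (lift (cj A * fld σ))) (hσ : σ ≠ 1) {r : ℕ} [Fact r.Prime] [CharP F r] (hr : r ≠ 2) :
    ∃ l : ℕ, 1 ≤ l ∧ Nat.card F = 3 ^ 2 ^ l := by
  have hfinA : Finite (F ≃+* F) := Finite.of_injective (fun f : F ≃+* F => (f : F → F)) DFunLike.coe_injective
  obtain ⟨k, hk⟩ := sigma_pow_two hu
  obtain ⟨l, -, hl⟩ := (Nat.dvd_prime_pow Nat.prime_two).1 (orderOf_dvd_of_pow_eq_one hk)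
  have hl1 : 1 ≤ l := by
    by_contra hcon
    obtain rfl : l = 0 := by omega
    rw [pow_zero, orderOf_eq_one_iff] at hl
    exact hσ hl
  obtain ⟨l, rfl⟩ := Nat.exists_eq_add_of_le' hl1
  set F0 := FixedPoints.subfield (Subgroup.zpowers σ) F with hF0
  set F1 := FixedPoints.subfield (Subgroup.zpowers (σ ^ 2)) F with hF1
  have h0 := card_fixed σ
  have h1 := card_fixed (σ ^ 2)
  rw [← hF0, hl] at h0
  have hord2 : orderOf (σ ^ 2) = 2 ^ l := by
    rw [orderOf_pow' σ two_ne_zero, hl, pow_succ, Nat.gcd_eq_right (Dvd.intro_left _ rfl), Nat.mul_div_cancel _ two_pos]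
  rw [← hF1, hord2] at h1
  have h10 : Nat.card F1 = Nat.card F0 ^ 2 := by
    have h2 : Nat.card F1 ^ 2 ^ l = (Nat.card F0 ^ 2) ^ 2 ^ l := by
      rw [← h1, h0, ← pow_mul, pow_succ, mul_comm]
    exact Nat.pow_left_injective (pow_ne_zero _ two_ne_zero) h2
  -- generators
  obtain ⟨s, hs⟩ := IsCyclic.exists_generator (α := F0ˣ)
  obtain ⟨x, hx⟩ := IsCyclic.exists_generator (α := F1ˣ)
  have hq1 : ∃ k, Nat.card F0 - 1 ∣ 2 ^ k := by
    obtain ⟨k, hk⟩ := unit_of_fixed hc hu (s := Units.map (F0.subtype : F0 →* F) s) (mem_fixed.1 (s : F0).2)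
    refine ⟨k, ?_⟩
    rw [← map_pow] at hk
    have h2 : s ^ 2 ^ k = 1 := by
      apply Units.ext
      apply Subtype.ext
      exact congrArg Units.val hk
    rw [← Nat.card_units, ← orderOf_eq_card_of_forall_mem_zpowers hs]
    exact orderOf_dvd_of_pow_eq_one h2
  have hq2 : ∃ k, Nat.card F0 + 1 ∣ 2 ^ k := by
    set y : Fˣ := Units.map (F1.subtype : F1 →* F) x with hy
    have hyx : ∀ m : ℕ, y ^ m = 1 → x ^ m = 1 := by
      intro m hm
      rw [hy, ← map_pow] at hm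
      apply Units.ext
      apply Subtype.ext
      exact congrArg Units.val hm
    have hy2 : σ (σ (y : F)) = y := mem_fixed.1 (x : F1).2
    have hy3 : σ (((y⁻¹ : Fˣ) : F)) = (((Units.map (σ : F →* F) y)⁻¹ : Fˣ) : F) := by
      rw [← map_inv]; rfl
    obtain ⟨k, hk⟩ := unit_of_inv hc hu (s := Units.map (σ : F →* F) y * y⁻¹) (by
      rw [Units.val_mul, map_mul, hy3, mul_inv, inv_inv, Units.val_mul]
      change σ (σ (y : F)) * _ = _
      rw [hy2, mul_comm])
    refine ⟨k, ?_⟩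
    have h2 : σ (((y ^ 2 ^ k : Fˣ) : F)) = ((y ^ 2 ^ k : Fˣ) : F) := by
      rw [mul_pow, inv_pow, mul_inv_eq_one, ← map_pow] at hk
      exact congrArg Units.val hk
    -- an element of the fixed field
    have h3 : (y ^ 2 ^ k) ^ (Nat.card F0 - 1) = 1 := by
      have h4 : ∀ z : F0, z ≠ 0 → z ^ (Nat.card F0 - 1) = 1 := by
        intro z hz
        have := Fintype.ofFinite F0
        rw [Nat.card_eq_fintype_card]
        exact FiniteField.pow_card_sub_one_eq_one z hz
      have h5 := h4 ⟨_, mem_fixed.2 h2⟩ (fun h => (y ^ 2 ^ k).ne_zero (congrArg Subtype.val h))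
      apply Units.ext
      exact congrArg Subtype.val h5
    rw [← pow_mul] at h3
    have h5 := orderOf_dvd_of_pow_eq_one (hyx _ h3)
    rw [orderOf_eq_card_of_forall_mem_zpowers hx, Nat.card_units, h10] at h5
    have h6 : Nat.card F0 ^ 2 - 1 = (Nat.card F0 + 1) * (Nat.card F0 - 1) := by
      have := Nat.sq_sub_sq (Nat.card F0) 1
      rwa [one_pow] at this
    rw [h6] at h5
    have h7 : 2 ≤ Nat.card F0 := Finite.one_lt_card
    exact Nat.dvd_of_mul_dvd_mul_right (by omega) h5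
  have h3 : 3 ≤ Nat.card F0 := by
    have h7 : 2 ≤ Nat.card F0 := Finite.one_lt_card
    rcases Nat.lt_or_ge 2 (Nat.card F0) with h8 | h8
    · exact h8
    · exfalso
      have h9 : Nat.card F0 = 2 := le_antisymm h8 h7
      have : Fintype F := Fintype.ofFinite F
      obtain ⟨n, hrp, hn⟩ := FiniteField.card F r
      rw [h9, Nat.card_eq_fintype_card, hn] at h0
      have h11 : r ∣ 2 ^ 2 ^ (l + 1) := by rw [← h0]; exact dvd_pow_self r n.ne_zero
      exact hr ((Nat.prime_dvd_prime_iff_eq hrp Nat.prime_two).1 (hrp.dvd_of_dvd_pow h11))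
  obtain ⟨a, ha⟩ := hq1
  obtain ⟨a', ha'⟩ := hq2
  have h4 := three_of_dvd ha' ha h3
  exact ⟨l + 1, by omega, by rw [h0, h4]⟩

/-- **The group `PSL₂(F)`, `|F|` odd.** -/
theorem psl_two_core {r : ℕ} [Fact r.Prime] [CharP F r] (hr : r ≠ 2) (h4 : 4 ≤ Nat.card F)
    (hc : Subgroup.center (Matrix.ProjectiveSpecialLinearGroup (Fin 2) F) = ⊥)
    {u : MulAut (Matrix.ProjectiveSpecialLinearGroup (Fin 2) F)} (hu : PCos 2 u)
    (hout : u ∉ (MulAut.conj : Matrix.ProjectiveSpecialLinearGroup (Fin 2) F →* _).range) :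
    ∃ l : ℕ, 1 ≤ l ∧ Nat.card F = 3 ^ 2 ^ l := by
  have : Fintype F := Fintype.ofFinite F
  obtain ⟨A, σ, rfl⟩ := surj_two r u
  by_cases hσ : σ = 1
  · exfalso
    subst hσ
    have hA : ¬ IsSquare (A : Matrix (Fin 2) (Fin 2) F).det := by
      rintro ⟨c, hcc⟩
      have hd : (A : Matrix (Fin 2) (Fin 2) F).det ≠ 0 := (Matrix.isUnits_det_units A).ne_zero
      have hc0 : c ≠ 0 := by
        rintro rfl
        rw [mul_zero] at hcc
        exact hd hcc
      let C : Matrix.SpecialLinearGroup (Fin 2) F := ⟨c⁻¹ • (A : Matrix (Fin 2) (Fin 2) F), by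
        rw [Matrix.det_smul, Fintype.card_fin, hcc]; field_simp⟩
      refine hout ⟨pr C, ?_⟩
      rw [lift_cj_coe C (Units.mk0 c hc0) 1 A ?_ 1, map_one cj, map_one fld, mul_one, map_one, mul_one]
      change (A : Matrix (Fin 2) (Fin 2) F) = c • (c⁻¹ • (A : Matrix (Fin 2) (Fin 2) F) * ((1 : GL (Fin 2) F) :
        Matrix (Fin 2) (Fin 2) F))
      rw [Units.val_one, mul_one, smul_smul, mul_inv_cancel₀ hc0, one_smul]
    have h3 := diag_case (r := r) hr hu hA (by omega)
    omega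
  · exact field_case hc hu hσ (r := r) hr

end Two

end Cfsg.Agent.H69.CosetP
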