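import Mathlib
import Cfsg.Agent.H69.CosetDef
import Cfsg.Agent.H198.SympGamma

/-!
# The class of the short root elements in the symplectic groups

`psp_fixed` : in `PSp_{2m}(F)`, `m ≥ 2`, `|F|` odd, there is an element `y ≠ 1` with `y ^ r = 1`, `r` the
characteristic, such that every automorphism maps `y` to a conjugate of `y`.
-/

set_option autoImplicit false

namespace Cfsg.Agent.H69.CosetP

open Cfsg Matrix
open Cfsg.Agent.ClassicalGeometry.SympBasic Cfsg.Agent.ClassicalGeometry.SympAutExists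

section Mat

variable {F : Type*} [Field F] {m : ℕ} (i j : Fin m)

/-- the short root element -/
def Ym : Matrix (Fin m ⊕ Fin m) (Fin m ⊕ Fin m) F :=
  1 + (single (Sum.inl i) (Sum.inr j) 1 + single (Sum.inl j) (Sum.inr i) 1)

theorem Ym_mulVec (v : Fin m ⊕ Fin m → F) : (Ym i j : Matrix (Fin m ⊕ Fin m) (Fin m ⊕ Fin m) F) *ᵥ v =
    v + (Pi.single (Sum.inl i) (v (Sum.inr j)) + Pi.single (Sum.inl j) (v (Sum.inr i))) := by
  rw [Ym, add_mulVec, one_mulVec, add_mulVec, single_mulVec, single_mulVec]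
  simp only [one_mul]
  rfl

theorem Ym_mem : (Ym i j : Matrix (Fin m ⊕ Fin m) (Fin m ⊕ Fin m) F) ∈ Matrix.symplecticGroup (Fin m) F := by
  rw [mem_symplecticGroup_iff]
  intro u v
  have hs : ∀ (a : F) (k : Fin m), (Pi.single (Sum.inl k) a : Fin m ⊕ Fin m → F) = a • Pi.single (Sum.inl k) 1 := by
    intro a k
    rw [← Pi.single_smul, smul_eq_mul, mul_one]
  rw [Ym_mulVec, Ym_mulVec, hs (u (Sum.inr j)) i, hs (u (Sum.inr i)) j, hs (v (Sum.inr j)) i, hs (v (Sum.inr i)) j]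
  simp only [sympForm_add_left, sympForm_add_right, sympForm_smul_left, sympForm_smul_right,
    sympForm_single_inl_left, sympForm_single_inl_right, Pi.single_apply, reduceCtorEq, if_false, Pi.add_apply,
    Pi.smul_apply, smul_zero, add_zero]
  ring

theorem Ym_map (σ : F ≃+* F) : (Ym i j : Matrix (Fin m ⊕ Fin m) (Fin m ⊕ Fin m) F).map σ = Ym i j := by
  ext a b
  simp only [Ym, Matrix.map_apply, Matrix.add_apply, map_add, Matrix.one_apply, Matrix.single_apply]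
  split_ifs <;> simp

/-- the diagonal similarity -/
def Dm (l : F) : Matrix (Fin m ⊕ Fin m) (Fin m ⊕ Fin m) F :=
  diagonal (Sum.elim (fun k => if k = i then 1 else l) fun k => if k = i then l else 1)

theorem Dm_mul (l : F) (hij : i ≠ j) : Dm i l * Ym i j = Ym i j * (Dm i l : Matrix (Fin m ⊕ Fin m) (Fin m ⊕ Fin m) F) := by
  rw [Ym, mul_add, add_mul, mul_one, one_mul, mul_add, add_mul]
  congr 2
  · ext a b
    rw [Dm, diagonal_mul, mul_diagonal, single_apply]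
    split_ifs with h
    · obtain ⟨rfl, rfl⟩ := h
      simp [hij.symm]
    · simp
  · ext a b
    rw [Dm, diagonal_mul, mul_diagonal, single_apply]
    split_ifs with h
    · obtain ⟨rfl, rfl⟩ := h
      simp [hij.symm]
    · simp

theorem Dm_form (l : F) (u v : Fin m ⊕ Fin m → F) :
    sympForm m F ((Dm i l : Matrix (Fin m ⊕ Fin m) (Fin m ⊕ Fin m) F) *ᵥ u) (Dm i l *ᵥ v) = l * sympForm m F u v := by
  rw [sympForm_eq_sum, sympForm_eq_sum, Finset.mul_sum]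
  refine Finset.sum_congr rfl fun k _ => ?_
  simp only [Dm, mulVec_diagonal, Sum.elim_inl, Sum.elim_inr]
  split_ifs <;> ring

variable {i j}

theorem psp_fixed [Finite F] (hm : 2 ≤ m) {r : ℕ} [Fact r.Prime] [CharP F r] (hr : r ≠ 2) :
    ∃ y : PSp m F, y ≠ 1 ∧ y ^ r = 1 ∧ ∀ α : MulAut (PSp m F), IsConj y (α y) := by
  have h2 : (2 : F) ≠ 0 := by
    intro h
    have h3 : ((2 : ℕ) : F) = 0 := by exact_mod_cast h
    rw [CharP.cast_eq_zero_iff F r] at h3
    exact hr ((Nat.prime_dvd_prime_iff_eq Fact.out Nat.prime_two).1 h3)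
  let i : Fin m := ⟨0, by omega⟩
  let j : Fin m := ⟨1, by omega⟩
  have hij : i ≠ j := by simp [i, j]
  have hne : Nonempty (Fin m ⊕ Fin m) := ⟨Sum.inl i⟩
  let y : Matrix.symplecticGroup (Fin m) F := ⟨Ym i j, Ym_mem i j⟩
  have hy : (y : Matrix (Fin m ⊕ Fin m) (Fin m ⊕ Fin m) F) = Ym i j := rfl
  have hN : (single (Sum.inl i) (Sum.inr j) 1 + single (Sum.inl j) (Sum.inr i) 1 :
      Matrix (Fin m ⊕ Fin m) (Fin m ⊕ Fin m) F) *
      (single (Sum.inl i) (Sum.inr j) 1 + single (Sum.inl j) (Sum.inr i) 1) = 0 := by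
    simp [mul_add, add_mul]
  refine ⟨QuotientGroup.mk y, ?_, ?_, ?_⟩
  · intro h
    obtain ⟨a, ha⟩ := smul_of_mem_center ((QuotientGroup.eq_one_iff y).1 h)
    have h3 := ha (Pi.single (Sum.inr j : Fin m ⊕ Fin m) 1)
    have h4 := congrFun h3 (Sum.inl i : Fin m ⊕ Fin m)
    have h5 : (y • (Pi.single (Sum.inr j) 1 : Fin m ⊕ Fin m → F)) =
      (Ym i j : Matrix (Fin m ⊕ Fin m) (Fin m ⊕ Fin m) F) *ᵥ (Pi.single (Sum.inr j) 1 : Fin m ⊕ Fin m → F) := rfl
    rw [h5, Ym_mulVec] at h4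
    simp [hij] at h4
  · rw [← QuotientGroup.mk_pow]
    have h3 : y ^ r = 1 := by
      apply Subtype.ext
      rw [SubmonoidClass.coe_pow, hy, Ym]
      rw [add_pow_char_of_commute (R := Matrix (Fin m ⊕ Fin m) (Fin m ⊕ Fin m) F) (p := r) (Commute.one_left _), one_pow]
      have h4 : 2 ≤ r := (Fact.out : r.Prime).two_le
      obtain ⟨k, rfl⟩ := Nat.exists_eq_add_of_le h4
      rw [pow_add, pow_two, hN, zero_mul, add_zero]
      rfl
    rw [h3]
    rfl
  · intro α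
    obtain ⟨A, σ, hA, hind⟩ := H198.SympGamma.exists_pair hm (Or.inr h2) α
    obtain ⟨c, hc⟩ := hA
    -- the symplectic matrix
    have hBmem : (A : Matrix (Fin m ⊕ Fin m) (Fin m ⊕ Fin m) F) * Dm i ((c⁻¹ : Fˣ) : F) ∈
        Matrix.symplecticGroup (Fin m) F := by
      rw [mem_symplecticGroup_iff]
      intro u v
      rw [← mulVec_mulVec, ← mulVec_mulVec, hc, Dm_form, ← mul_assoc, ← Units.val_mul, mul_inv_cancel, Units.val_one,
        one_mul]
    let B : Matrix.symplecticGroup (Fin m) F := ⟨_, hBmem⟩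
    have hB : (B : Matrix (Fin m ⊕ Fin m) (Fin m ⊕ Fin m) F) = (A : Matrix (Fin m ⊕ Fin m) (Fin m ⊕ Fin m) F) *
      Dm i ((c⁻¹ : Fˣ) : F) := rfl
    rw [isConj_iff]
    refine ⟨QuotientGroup.mk B, ?_⟩
    rw [hind y (B * y * B⁻¹) ?_]
    · rfl
    · rw [hy, Ym_map]
      -- cancel on the right
      have h3 : ((B * y * B⁻¹ : Matrix.symplecticGroup (Fin m) F) : Matrix (Fin m ⊕ Fin m) (Fin m ⊕ Fin m) F) *
          (B : Matrix (Fin m ⊕ Fin m) (Fin m ⊕ Fin m) F) = (B : Matrix (Fin m ⊕ Fin m) (Fin m ⊕ Fin m) F) * Ym i j := by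
        change ((B * y * B⁻¹ * B : Matrix.symplecticGroup (Fin m) F) : Matrix (Fin m ⊕ Fin m) (Fin m ⊕ Fin m) F) = _
        rw [inv_mul_cancel_right]
        rfl
      have hdet : (B : Matrix (Fin m ⊕ Fin m) (Fin m ⊕ Fin m) F) * ((B⁻¹ : Matrix.symplecticGroup (Fin m) F) :
          Matrix (Fin m ⊕ Fin m) (Fin m ⊕ Fin m) F) = 1 := by
        change ((B * B⁻¹ : Matrix.symplecticGroup (Fin m) F) : Matrix (Fin m ⊕ Fin m) (Fin m ⊕ Fin m) F) = _
        rw [mul_inv_cancel]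
        rfl
      have h4 : (A : Matrix (Fin m ⊕ Fin m) (Fin m ⊕ Fin m) F) * Ym i j * ((A⁻¹ : GL (Fin m ⊕ Fin m) F) :
          Matrix (Fin m ⊕ Fin m) (Fin m ⊕ Fin m) F) * (B : Matrix (Fin m ⊕ Fin m) (Fin m ⊕ Fin m) F) =
          (B : Matrix (Fin m ⊕ Fin m) (Fin m ⊕ Fin m) F) * Ym i j := by
        rw [hB, mul_assoc _ ((A⁻¹ : GL (Fin m ⊕ Fin m) F) : Matrix (Fin m ⊕ Fin m) (Fin m ⊕ Fin m) F),
          ← mul_assoc ((A⁻¹ : GL (Fin m ⊕ Fin m) F) : Matrix (Fin m ⊕ Fin m) (Fin m ⊕ Fin m) F), ← Units.val_mul,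
          inv_mul_cancel, Units.val_one, one_mul, mul_assoc, ← Dm_mul i j _ hij, mul_assoc]
      calc ((B * y * B⁻¹ : Matrix.symplecticGroup (Fin m) F) : Matrix (Fin m ⊕ Fin m) (Fin m ⊕ Fin m) F)
          = ((B * y * B⁻¹ : Matrix.symplecticGroup (Fin m) F) : Matrix (Fin m ⊕ Fin m) (Fin m ⊕ Fin m) F) *
            ((B : Matrix (Fin m ⊕ Fin m) (Fin m ⊕ Fin m) F) * ((B⁻¹ : Matrix.symplecticGroup (Fin m) F) :
              Matrix (Fin m ⊕ Fin m) (Fin m ⊕ Fin m) F)) := by rw [hdet, mul_one]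
        _ = (A : Matrix (Fin m ⊕ Fin m) (Fin m ⊕ Fin m) F) * Ym i j * ((A⁻¹ : GL (Fin m ⊕ Fin m) F) :
            Matrix (Fin m ⊕ Fin m) (Fin m ⊕ Fin m) F) * ((B : Matrix (Fin m ⊕ Fin m) (Fin m ⊕ Fin m) F) *
              ((B⁻¹ : Matrix.symplecticGroup (Fin m) F) : Matrix (Fin m ⊕ Fin m) (Fin m ⊕ Fin m) F)) := by
          rw [← mul_assoc, h3, ← h4, mul_assoc]
        _ = _ := by rw [hdet, mul_one]

end Mat

end Cfsg.Agent.H69.CosetP
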