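import Mathlib
import Cfsg.Agent.H69.CosetDef
import Cfsg.Agent.ClassicalGeometry.PSUAutMain
import Cfsg.Agent.ClassicalGeometry.UnitAutBasic

/-!
# The class of the unitary transvections

`psu_fixed` : in `PSU_n(q)`, `n ≥ 3`, there is an element `y ≠ 1` of order dividing `q²` such that every automorphism
maps `y` to a conjugate of `y`.
-/

set_option autoImplicit false

namespace Cfsg.Agent.H69.CosetP

open Cfsg Cfsg.Agent.LieClassical Cfsg.Agent.LieClassical.HermBasic Cfsg.Agent.LieClassical.HermSiegel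
  Cfsg.Agent.LieClassical.HermGen Cfsg.Agent.LieClassical.SUBasic Matrix
  Cfsg.Agent.ClassicalGeometry.PSUAutBasic Cfsg.Agent.ClassicalGeometry.PSUAutSylow
  Cfsg.Agent.ClassicalGeometry.PSUAutUnip Cfsg.Agent.ClassicalGeometry.PSUAutPhi
open Cfsg.Agent.ClassicalGeometry.UnitAutBasic (c0 c0_ne_zero c0_tr exists_c0_mul_norm)

variable {F : Type*} [Field F] [Fintype F] {q n : ℕ}

theorem conj_transv (hF : Fintype.card F = q ^ 2) (g : SU n F q) {u : Fin n → F} (hu : hermForm n F q u u = 0)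
    {μ : F} (hμ : μ + μ ^ q = 0) (hu' : hermForm n F q (act g u) (act g u) = 0) :
    g * transv hF u hu μ hμ * g⁻¹ = transv hF (act g u) hu' μ hμ := by
  apply ext_act
  intro x
  rw [act_mul, act_mul, act_transv, act_transv, act_add, act_smul, act_act_inv]
  congr 3
  rw [← herm_act g (act g⁻¹ x) u, act_act_inv]

theorem transv_congr (hF : Fintype.card F = q ^ 2) {u u' : Fin n → F} {hu : hermForm n F q u u = 0}
    {hu' : hermForm n F q u' u' = 0} {μ : F} {hμ : μ + μ ^ q = 0} (h : u = u') :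
    transv hF u hu μ hμ = transv hF u' hu' μ hμ := by
  subst h; rfl

theorem pr_transv_ne_one (hF : Fintype.card F = q ^ 2) (hn : 3 ≤ n) {e f : Fin n → F} (H : IsFrame q e f) {μ : F}
    (hμ : μ + μ ^ q = 0) (h0 : μ ≠ 0) : pr n F q (transv hF e H.ee μ hμ) ≠ 1 := by
  intro h
  obtain ⟨p, hp⟩ := CharP.exists F
  obtain ⟨k, hprime, hcard⟩ := FiniteField.card F p
  have := Fact.mk hprime
  have h1 := siegel_pow_card hF (isSiegel_zero H.ee hμ)
  rw [hcard] at h1
  have h2 := eq_one_of_center_of_pow hF hn (pr_eq_one_iff.1 h) h1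
  have h3 : act (transv hF e H.ee μ hμ) f = act 1 f := congrArg (fun g => act g f) h2
  rw [act_one, act_transv, frame_fe hF H, mul_one, add_eq_left] at h3
  rcases smul_eq_zero.1 h3 with h4 | h4
  · exact h0 h4
  · exact frame_ne_zero H h4

/-- **Every automorphism of `PSU_n(q)` fixes the class of a transvection.** -/
theorem psu_fixed (hF : Fintype.card F = q ^ 2) (hn : 3 ≤ n) :
    ∃ y : PSU n F q, y ≠ 1 ∧ y ^ Fintype.card F = 1 ∧ ∀ α : MulAut (PSU n F q), IsConj y (α y) := by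
  obtain ⟨e, f, H⟩ := exists_frame (F := F) (q := q) (n := n) hF (by omega)
  have he0 := frame_ne_zero H
  refine ⟨pr n F q (transv hF e H.ee (c0 hF) (c0_tr hF)), pr_transv_ne_one hF hn H _ (c0_ne_zero hF), ?_, ?_⟩
  · rw [← map_pow, transv, siegel_pow_card, map_one]
  intro α
  obtain ⟨u', hu0', hu', hmap⟩ := exists_map_RR hF hn α he0 H.ee
  have h1 : α (pr n F q (transv hF e H.ee (c0 hF) (c0_tr hF))) ∈ RR hF u' hu' := by
    rw [← hmap]
    exact Subgroup.mem_map.2 ⟨_, Subgroup.mem_map.2 ⟨_, mem_transvG.2 ⟨_, _, rfl⟩, rfl⟩, rfl⟩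
  obtain ⟨g', hg', h2⟩ := Subgroup.mem_map.1 h1
  obtain ⟨ν, hν, rfl⟩ := mem_transvG.1 hg'
  obtain ⟨a, ha⟩ := exists_c0_mul_norm hF hν
  have hν0 : ν ≠ 0 := by
    rintro rfl
    rw [transv_zero, map_one] at h2
    exact pr_transv_ne_one hF hn H (c0_tr hF) (c0_ne_zero hF) ((map_eq_one_iff α α.injective).1 h2.symm)
  have ha0 : a ≠ 0 := by
    rintro rfl
    rw [zero_mul, mul_zero] at ha
    exact hν0 ha.symm
  have hau : hermForm n F q (a • u') (a • u') = 0 := by
    rw [herm_smul_left, herm_smul_right, hu', mul_zero, mul_zero]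
  have h3 : transv hF u' hu' ν hν = transv hF (a • u') hau (c0 hF) (c0_tr hF) := by
    apply ext_act
    intro x
    rw [act_transv, act_transv, herm_smul_right, smul_smul, ← ha]
    congr 2
    ring
  obtain ⟨g, -, hg⟩ := exists_map_iso hF hn le_rfl (mem_coordSub_top e) (mem_coordSub_top (a • u')) he0
    (smul_ne_zero ha0 hu0') H.ee hau
  rw [← h2, h3, isConj_iff]
  refine ⟨pr n F q g, ?_⟩
  rw [← map_inv, ← map_mul, ← map_mul, conj_transv hF g H.ee (c0_tr hF) (by rw [hg]; exact hau)]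
  congr 1
  exact transv_congr hF hg

end Cfsg.Agent.H69.CosetP
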