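import Mathlib
import Cfsg.Agent.H69.CosetBldg
import Cfsg.Agent.H69.CosetCox
import Cfsg.Agent.H69.CosetPSL2
import Cfsg.Agent.H69.CosetUnit
import Cfsg.Agent.H69.CosetSymp
import Cfsg.Agent.H979.LieSplit
import Cfsg.Agent.Mrg.Omega.ML.Ex.Typ.List
import Cfsg.Agent.S2127

/-!
# Cosets of automorphisms of prime power order: groups of Lie type

`lie_core` : let `K` be a finite simple group of Lie type, `u` an automorphism of `K`, not inner, `p` a prime, all the
elements `conj n * u` having order a power of `p`. Then `p = 2` and `K ≅ PSL₂(3 ^ 2 ^ l)`, `l ≥ 1`.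
-/

set_option autoImplicit false

namespace Cfsg.Agent.H69.CosetP

open Cfsg
open Cfsg.Agent.Omega.ML.Ex.Typ (HasRGDT HasRGDT.hasSplitT HasRGDT.of_equiv HasSplitT typ_PSL typ_C typ_PO_minus
  typ_PO_plus typ_of_exc typ_twE6 typ_twD4)
open Cfsg.Agent.LieRecognition.BNCox (cA)

section Odd

open QuadraticMap
open Cfsg.Agent.LieClassical Cfsg.Agent.LieClassical.OrthCore Cfsg.Agent.LieClassical.OrthTrans
open Cfsg.Agent.LieClassical.OrthSimple Cfsg.Agent.LieClassical.OrthFinite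
open Cfsg.Agent.LieClassical.OrthForms
open Cfsg.Agent.TitsThree.KSideO Cfsg.Agent.TitsThree.StdData
open Cfsg.Agent.Nodes Cfsg.Agent.Nodes.WittAll Cfsg.Agent.Nodes.WittU Cfsg.Agent.Nodes.WittInst
  Cfsg.Agent.TitsThree.Siegel Cfsg.Agent.TitsThree.SiegelGen
  Cfsg.Agent.TitsThree.WittFrame Cfsg.Agent.TitsThree.WBridge Cfsg.Agent.TitsThree.WittWeyl
  Cfsg.Agent.TitsThree.FrameCN

/-- **`PΩ_{2m+1}(F)`, odd characteristic.** -/
theorem typ_PO_odd {F : Type*} [Field F] {m : ℕ} [Finite F] (h2 : (2 : F) ≠ 0) (hm : 2 ≤ m) {p : ℕ} [Fact p.Prime]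
    [CharP F p] : HasRGDT p (CoxeterMatrix.B m) (Cfsg.POmega F (Cfsg.quadFormOdd m F)) := by
  rw [← coe_oddForm]
  have hG : Good (oddForm m F) := by
    apply good_of_finite (nondeg_oddForm m F h2)
    rw [Module.finrank_fintype_fun_eq_card, Fintype.card_sum, Fintype.card_sum, Fintype.card_fin,
      Fintype.card_unit]
    omega
  have hp : ((embOdd m F).ngt ⟨1, -1 ^ 2, rfl⟩).c ≠ 0 := by
    change (1 : F)⁻¹ * (-1 ^ 2) ≠ 0
    simp
  exact typ_C (model (wodd m F) hG ⟨_, hp⟩) (AmbT.of_amb (amb_O_of_two _ h2) p) hp (by omega)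

end Odd

/-- the Weyl group argument -/
theorem kill.{v} {K : Type v} [Group K] [Finite K] [IsSimpleGroup K] {r : ℕ} (hr : r.Prime) {l : ℕ}
    {M : CoxeterMatrix (Fin l)} (hl : 0 < l) (h : HasRGDT r M K) (hM : ¬ Cox2.{0, v} M) {u : MulAut K}
    (hu : PCos 2 u) : False := by
  have : Fact r.Prime := ⟨hr⟩
  have : Nonempty (Fin l) := ⟨⟨0, hl⟩⟩
  obtain ⟨P, U, e, S, hT⟩ := h.hasSplitT hr hl
  exact hM (weyl S hT hu)

theorem false_of_fixed {K : Type*} [Group K] (hc : Subgroup.center K = ⊥) {u : MulAut K} (hu : PCos 2 u) {y : K}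
    (hy : y ≠ 1) {n : ℕ} (hn : Odd n) (hyn : y ^ n = 1) (h : IsConj y (u y)) : False := by
  obtain ⟨k, hk⟩ := hu.of_isConj hc h
  have h1 := orderOf_dvd_of_pow_eq_one hk
  have h2 := orderOf_dvd_of_pow_eq_one hyn
  have h3 : (2 ^ k).Coprime n := Nat.Coprime.pow_left k (Nat.coprime_two_left.2 hn)
  have h4 := Nat.dvd_gcd h1 h2
  rw [Nat.Coprime.gcd_eq_one h3, Nat.dvd_one, orderOf_eq_one_iff] at h4
  exact hy h4

theorem center_congr {K L : Type*} [Group K] [Group L] (e : K ≃* L) (hc : Subgroup.center K = ⊥) :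
    Subgroup.center L = ⊥ := by
  rw [eq_bot_iff]
  intro z hz
  have h1 : e.symm z ∈ Subgroup.center K := by
    rw [Subgroup.mem_center_iff]
    intro g
    apply e.injective
    rw [map_mul, map_mul, e.apply_symm_apply]
    exact Subgroup.mem_center_iff.1 hz (e g)
  rw [hc, Subgroup.mem_bot] at h1
  rw [Subgroup.mem_bot, ← e.apply_symm_apply z, h1, map_one]

theorem false_of_fixed_congr {K L : Type*} [Group K] [Group L] (e : K ≃* L) (hc : Subgroup.center K = ⊥)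
    {u : MulAut K} (hu : PCos 2 u) {y : L} (hy : y ≠ 1) {n : ℕ} (hn : Odd n) (hyn : y ^ n = 1)
    (h : ∀ α : MulAut L, IsConj y (α y)) : False :=
  false_of_fixed (center_congr e hc) (hu.congr e) hy hn hyn (h _)

theorem odd_card {F : Type*} [Field F] [Fintype F] {r : ℕ} (hr : r.Prime) [CharP F r] (hr2 : r ≠ 2) :
    Odd (Fintype.card F) := by
  obtain ⟨n, -, hn⟩ := FiniteField.card F r
  rw [hn]
  exact (hr.odd_of_ne_two hr2).pow

/-- the groups of Ree have no outer automorphisms of `2`-power order -/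
theorem ree_false {K : Type*} [Group K] {u : MulAut K} (hu : PCos 2 u) (h : Lie.IsoRee K)
    (hout : u ∉ (MulAut.conj : K →* MulAut K).range) : False := by
  obtain ⟨F, i1, i2, m, hm, hF, ⟨e⟩⟩ := h
  have h1 := Cfsg.Agent.S2127.result hm hF
  have h2 := not_inner_congr e hout
  obtain ⟨k, hk⟩ := (hu.congr e).self
  set v := MulAut.congr e u with hv
  have : Finite (Cfsg.Out ↥(Cfsg.Lie.twistedG2 F (3 ^ m))) := Nat.finite_of_card_ne_zero (by rw [h1]; omega)
  have h3 : (QuotientGroup.mk v : Cfsg.Out ↥(Cfsg.Lie.twistedG2 F (3 ^ m))) ^ (2 ^ k) = 1 := by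
    rw [← QuotientGroup.mk_pow, hk]; rfl
  have h4 : (QuotientGroup.mk v : Cfsg.Out ↥(Cfsg.Lie.twistedG2 F (3 ^ m))) ^ (2 * m + 1) = 1 := by
    rw [← h1]; exact pow_card_eq_one'
  have h5 := Nat.dvd_gcd (orderOf_dvd_of_pow_eq_one h3) (orderOf_dvd_of_pow_eq_one h4)
  have h6 : (2 ^ k).Coprime (2 * m + 1) := Nat.Coprime.pow_left k (by simp)
  rw [Nat.Coprime.gcd_eq_one h6, Nat.dvd_one, orderOf_eq_one_iff] at h5
  exact h2 ((QuotientGroup.eq_one_iff _).1 h5)

/-- **Odd characteristic, `p = 2`.** -/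
theorem lie_core_odd.{v} {K : Type v} [Group K] [Finite K] [IsSimpleGroup K] (hc : Subgroup.center K = ⊥) {r : ℕ}
    (hr : r.Prime) (hr2 : r ≠ 2) (hL : IsLieTypeChar r K) {u : MulAut K}
    (hout : u ∉ (MulAut.conj : K →* MulAut K).range) (hu : PCos 2 u) :
    ∃ (F : Type) (_ : Field F) (_ : Fintype F) (l : ℕ), 1 ≤ l ∧ Fintype.card F = 3 ^ 2 ^ l ∧
      Nonempty (K ≃* Matrix.ProjectiveSpecialLinearGroup (Fin 2) F) := by
  have hrf : Fact r.Prime := ⟨hr⟩
  rcases hL with h | h | h | h | h | h | h | h | h | h | h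
  · obtain ⟨F, i1, i2, i3, n, hn, h4, ⟨e⟩⟩ := h
    rcases Nat.lt_or_ge n 3 with h3 | h3
    · obtain rfl : n = 2 := by omega
      obtain ⟨l, hl, hF⟩ := psl_two_core (F := F) (r := r) hr2 (by rw [Nat.card_eq_fintype_card]; exact h4 rfl)
        (center_congr e hc) (hu.congr e) (not_inner_congr e hout)
      rw [Nat.card_eq_fintype_card] at hF
      exact ⟨F, i1, i2, l, hl, hF, ⟨e⟩⟩
    · exfalso
      obtain ⟨n, rfl⟩ := Nat.exists_eq_add_of_le' (by omega : 1 ≤ n)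
      exact kill hr (by omega) ((typ_PSL (p := r) n).of_equiv e.symm) (not_cA (by omega)) hu
  · exfalso
    obtain ⟨F, i1, i2, i3, m, hm, -, ⟨e⟩⟩ := h
    obtain ⟨y, hy, hyr, hfix⟩ := psp_fixed (F := F) hm (r := r) hr2
    exact false_of_fixed_congr e hc hu hy (hr.odd_of_ne_two hr2) hyr hfix
  · exfalso
    obtain ⟨F, i1, i2, i3, n, q, hF, hn, -, ⟨e⟩⟩ := h
    obtain ⟨y, hy, hyr, hfix⟩ := psu_fixed (F := F) hF hn
    exact false_of_fixed_congr e hc hu hy (odd_card hr hr2) hyr hfix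
  · exfalso
    obtain ⟨F, i1, i2, i3, m, hm, -, ⟨e⟩⟩ := h
    have h2 : (2 : F) ≠ 0 := by
      intro h
      have h3 : ((2 : ℕ) : F) = 0 := by exact_mod_cast h
      rw [CharP.cast_eq_zero_iff F r] at h3
      exact hr2 ((Nat.prime_dvd_prime_iff_eq hr Nat.prime_two).1 h3)
    exact kill hr (by omega) ((typ_PO_odd (p := r) h2 (by omega)).of_equiv e.symm) (not_B hm) hu
  · exfalso
    obtain ⟨F, i1, i2, i3, m, hm, ⟨e⟩⟩ := h
    obtain ⟨n, rfl⟩ : ∃ n, m = n + 3 := ⟨m - 3, by omega⟩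
    exact kill hr (by omega) ((typ_PO_plus (p := r) n).of_equiv e.symm) (not_D (by omega)) hu
  · exfalso
    obtain ⟨F, i1, i2, i3, m, a, b, hm, hab, ⟨e⟩⟩ := h
    exact kill hr (by omega) ((typ_PO_minus (p := r) hab (by omega)).of_equiv e.symm) (not_B (by omega)) hu
  · exfalso
    rcases typ_of_exc h with h | h | h | h | h
    · exact kill hr (by omega) h not_G2 hu
    · exact kill hr (by omega) h not_F4 hu
    · exact kill hr (by omega) h not_E6 hu
    · exact kill hr (by omega) h not_E7 hu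
    · exact kill hr (by omega) h not_E8 hu
  · exfalso
    obtain ⟨F, i1, i2, i3, q, hq, ⟨hF, ⟨e⟩⟩ | ⟨hF, ⟨e⟩⟩⟩ := h
    · exact kill hr (by omega) ((typ_twE6 hq hF r).of_equiv e.symm) not_F4 hu
    · exact kill hr (by omega) ((typ_twD4 hq hF r).of_equiv e.symm) not_G2 hu
  · exact absurd h.1 hr2
  · exact absurd h.1 hr2
  · exact (ree_false hu h.2 hout).elim

/-- **The groups of Lie type.** -/
theorem lie_core.{v} {K : Type v} [Group K] [Finite K] [IsSimpleGroup K] (hna : ∃ a b : K, a * b ≠ b * a) {r : ℕ}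
    (hr : r.Prime) (hL : IsLieTypeChar r K) {u : MulAut K} (hout : u ∉ (MulAut.conj : K →* MulAut K).range) {p : ℕ}
    (hp : p.Prime) (hu : ∀ n : K, ∃ k : ℕ, (MulAut.conj n * u) ^ p ^ k = 1) :
    p = 2 ∧ ∃ (F : Type) (_ : Field F) (_ : Fintype F) (l : ℕ), 1 ≤ l ∧ Fintype.card F = 3 ^ 2 ^ l ∧
      Nonempty (K ≃* Matrix.ProjectiveSpecialLinearGroup (Fin 2) F) := by
  have hrf : Fact r.Prime := ⟨hr⟩
  have hS := H979.LieSplit.hasSplit_of_isLieTypeChar hr hL
  obtain rfl : p = 2 := by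
    by_contra h2
    exact not_pCos_of_odd hS (hp.odd_of_ne_two h2) u hu
  have hr2 : r ≠ 2 := by
    rintro rfl
    exact not_pCos_char hS u hu
  exact ⟨rfl, lie_core_odd (center_eq_bot hna) hr hr2 hL hout hu⟩

end Cfsg.Agent.H69.CosetP
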