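import Cfsg.Agent.H69.Fi22Row
import Cfsg.Agent.H184.Fi22Three

/-!
# `Fi22` has a good prime (weak form)
-/

set_option autoImplicit false

namespace Cfsg.Agent.H69.Fi22Good

open Cfsg Cfsg.Spor Cfsg.Agent.H184.Fi22Ok Cfsg.Agent.H184.Fi22Three

theorem exists_ord {q : ℕ} (hq : q.Prime) (hd : q ∣ 64561751654400) : ∃ x : Spor.Fi22, orderOf x = q := by
  have hfin : Finite Spor.Fi22 := Cfsg.Agent.R01.Fi22Facts.finite
  have : Fact q.Prime := ⟨hq⟩
  exact exists_prime_orderOf_dvd_card' q (by rw [Cfsg.Agent.R01.Fi22Facts.card]; exact hd)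

/-- **The row `Fi22`.** -/
theorem good : Cfsg.Agent.H585.GW.HasGoodW Spor.Fi22 := by
  obtain ⟨x5, h5⟩ := exists_ord (q := 5) (by norm_num) (by norm_num)
  obtain ⟨x7, h7⟩ := exists_ord (q := 7) (by norm_num) (by norm_num)
  obtain ⟨x11, h11⟩ := exists_ord (q := 11) (by norm_num) (by norm_num)
  obtain ⟨x13, h13⟩ := exists_ord (q := 13) (by norm_num) (by norm_num)
  exact Cfsg.Agent.H69.Fi22Row.good_fi22' ok_d ok_di ok_ace ok_flip ok_flip_d ok_flip_di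
    (fun y hy => ok_three y hy) ⟨x5, h5, ok_five x5 h5⟩ ⟨x7, h7, ok_seven x7 h7⟩ ⟨x11, h11, ok_eleven x11 h11⟩
    ⟨x13, h13, ok_thirteen x13 h13⟩

end Cfsg.Agent.H69.Fi22Good
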