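import Cfsg.Agent.H585.GoodW
import Cfsg.Agent.H830.OutInv22
import Cfsg.Agent.H836.Main
import Cfsg.Agent.H835.Five
import Cfsg.Agent.OddHalf.D8.Fi22.KTrans
import Cfsg.Agent.S2079
import Cfsg.Agent.S1696

/-!
# The row `Fi22` of S4384: assembly (helper69, task S4384-Fi22-C)
-/

set_option autoImplicit false

namespace Cfsg.Agent.H69.Fi22Row

open Cfsg Cfsg.Spor Cfsg.Spor.Fi22
open Cfsg.Agent.Fischer.Fi22PtsRep (gen gen_sq gen_cox)
open Cfsg.Agent.H833.Flip Cfsg.Agent.H833.AutFinal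
open Cfsg.Agent.R01.Fi22Facts (T gen_mem)
open Cfsg.Agent.H585.GW Cfsg.Agent.H585.FacOne Cfsg.Agent.H585.Good

/-- `β` generates with an inner automorphism of order 13 a subgroup which is not solvable. -/
abbrev Ok (β : MulAut Spor.Fi22) : Prop :=
  ∃ z : Spor.Fi22, orderOf z = 13 ∧ ¬ Group.IsSolvable (Subgroup.closure ({MulAut.conj z, β} : Set (MulAut Spor.Fi22)))

theorem solvable_mono {G : Type*} [Group G] {A B : Subgroup G} (h : A ≤ B) (hB : Group.IsSolvable B) :
    Group.IsSolvable A :=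
  Group.isSolvable_of_isSolvable_injective (f := Subgroup.inclusion h) (Subgroup.inclusion_injective h)

theorem conj_conj (α : MulAut Spor.Fi22) (z : Spor.Fi22) : α * MulAut.conj z * α⁻¹ = MulAut.conj (α z) := by
  ext y
  show α (z * α⁻¹ y * z⁻¹) = α z * y * (α z)⁻¹
  rw [map_mul, map_mul, map_inv]
  congr 2
  exact MulEquiv.apply_symm_apply α y

theorem Ok.conj' {β β' : MulAut Spor.Fi22} (h : Ok β) (hc : IsConj β β') : Ok β' := by
  obtain ⟨z, hz, hs⟩ := h
  obtain ⟨α, rfl⟩ := isConj_iff.1 hc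
  refine ⟨α z, by rw [MulEquiv.orderOf_eq, hz], fun hs' => hs ?_⟩
  refine solvable_map_equiv (MulAut.conj α) ?_
  rw [Set.image_pair]
  show Group.IsSolvable (Subgroup.closure ({α * MulAut.conj z * α⁻¹, α * β * α⁻¹} : Set (MulAut Spor.Fi22)))
  rw [conj_conj]
  exact hs'

theorem Ok.of_zpowers {β β' : MulAut Spor.Fi22} (h : Ok β) (hz : β ∈ Subgroup.zpowers β') : Ok β' := by
  obtain ⟨z, hz', hs⟩ := h
  refine ⟨z, hz', fun hs' => hs (solvable_mono ?_ hs')⟩
  rw [Subgroup.closure_le]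
  rintro x (rfl | rfl)
  · exact Subgroup.subset_closure (Or.inl rfl)
  · have h1 : β' ∈ Subgroup.closure ({MulAut.conj z, β'} : Set (MulAut Spor.Fi22)) :=
      Subgroup.subset_closure (Or.inr rfl)
    exact (Subgroup.zpowers_le.2 h1) hz

/-- Conjugate cyclic subgroups. -/
theorem Ok.of_map {x x' : Spor.Fi22} (h : Ok (MulAut.conj x)) {g : Spor.Fi22}
    (hg : (Subgroup.zpowers x).map (MulAut.conj g).toMonoidHom = Subgroup.zpowers x') : Ok (MulAut.conj x') := by
  have h1 : Ok (MulAut.conj (g * x * g⁻¹)) := by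
    refine Ok.conj' h (isConj_iff.2 ⟨MulAut.conj g, ?_⟩)
    rw [map_mul, map_mul, map_inv]
  refine Ok.of_zpowers h1 ?_
  have h2 : g * x * g⁻¹ ∈ Subgroup.zpowers x' := by
    rw [← hg]
    exact ⟨x, Subgroup.mem_zpowers x, rfl⟩
  obtain ⟨k, hk⟩ := Subgroup.mem_zpowers_iff.1 h2
  exact Subgroup.mem_zpowers_iff.2 ⟨k, by rw [← map_zpow, hk]⟩

theorem Ok.of_elt {x x' : Spor.Fi22} (h : Ok (MulAut.conj x)) {g : Spor.Fi22} (hg : g * x * g⁻¹ = x') :
    Ok (MulAut.conj x') := by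
  subst hg
  refine Ok.conj' h (isConj_iff.2 ⟨MulAut.conj g, ?_⟩)
  rw [map_mul, map_mul, map_inv]

theorem orderOf_conj (x : Spor.Fi22) : orderOf (MulAut.conj x) = orderOf x := by
  have hs : IsSimpleGroup Spor.Fi22 := Cfsg.Agent.R01.Fi22Facts.isSimple
  exact orderOf_injective _ (conj_injective (center_eq_bot Cfsg.Agent.StdFi22.MainFi22.not_comm)) x

theorem prime_cases {p : ℕ} (hp : p.Prime) (h : p ∣ 64561751654400) :
    p = 2 ∨ p = 3 ∨ p = 5 ∨ p = 7 ∨ p = 11 ∨ p = 13 := by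
  have e : (64561751654400 : ℕ) = 2 ^ 17 * 3 ^ 9 * 5 ^ 2 * 7 * 11 * 13 := by norm_num
  rw [e] at h
  have key : ∀ {q n : ℕ}, q.Prime → p ∣ q ^ n → p = q := fun hq h1 => (Nat.prime_dvd_prime_iff_eq hp hq).1 (hp.dvd_of_dvd_pow h1)
  rcases (Nat.Prime.dvd_mul hp).1 h with h | h
  · rcases (Nat.Prime.dvd_mul hp).1 h with h | h
    · rcases (Nat.Prime.dvd_mul hp).1 h with h | h
      · rcases (Nat.Prime.dvd_mul hp).1 h with h | h
        · rcases (Nat.Prime.dvd_mul hp).1 h with h | h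
          · exact Or.inl (key (by norm_num) h)
          · exact Or.inr (Or.inl (key (by norm_num) h))
        · exact Or.inr (Or.inr (Or.inl (key (by norm_num) h)))
      · exact Or.inr (Or.inr (Or.inr (Or.inl ((Nat.prime_dvd_prime_iff_eq hp (by norm_num)).1 h))))
    · exact Or.inr (Or.inr (Or.inr (Or.inr (Or.inl ((Nat.prime_dvd_prime_iff_eq hp (by norm_num)).1 h)))))
  · exact Or.inr (Or.inr (Or.inr (Or.inr (Or.inr ((Nat.prime_dvd_prime_iff_eq hp (by norm_num)).1 h)))))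

/-- **The row.** -/
theorem good_fi22
    (i1 : ∃ a ∈ T, Ok (MulAut.conj a))
    (i2 : ∃ a ∈ T, ∃ b ∈ T, a ≠ b ∧ a * b = b * a ∧ Ok (MulAut.conj (a * b)))
    (i3 : ∃ a ∈ T, ∃ b ∈ T, ∃ c ∈ T, a ≠ b ∧ a ≠ c ∧ b ≠ c ∧ a * b = b * a ∧ a * c = c * a ∧ b * c = c * b ∧
      Ok (MulAut.conj (a * b * c)))
    (o1 : Ok flipA) (o2 : Ok (flipA * MulAut.conj (gen .d))) (o3 : Ok (flipA * MulAut.conj (gen .d * gen .i)))
    (h3 : ∀ x : Spor.Fi22, orderOf x = 3 → Ok (MulAut.conj x))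
    (h5 : ∃ x : Spor.Fi22, orderOf x = 5 ∧ Ok (MulAut.conj x))
    (h7 : ∃ x : Spor.Fi22, orderOf x = 7 ∧ Ok (MulAut.conj x))
    (h11 : ∃ x : Spor.Fi22, orderOf x = 11 ∧ Ok (MulAut.conj x))
    (h13 : ∃ x : Spor.Fi22, orderOf x = 13 ∧ Ok (MulAut.conj x)) : HasGoodW Spor.Fi22 := by
  have hs : IsSimpleGroup Spor.Fi22 := Cfsg.Agent.R01.Fi22Facts.isSimple
  have hfin : Finite Spor.Fi22 := Cfsg.Agent.R01.Fi22Facts.finite
  have hcard := Cfsg.Agent.R01.Fi22Facts.card
  have K := Cfsg.Agent.OddHalf.D8.Fi22.kTrans0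
  have I := Cfsg.Agent.H836.inv_of_iso (MulEquiv.refl Spor.Fi22)
  have hprime : ∀ β : MulAut Spor.Fi22, (orderOf β).Prime → Ok β := by
    intro β hβ
    by_cases hin : β ∈ (MulAut.conj : Spor.Fi22 →* MulAut Spor.Fi22).range
    · obtain ⟨x, rfl⟩ := hin
      rw [orderOf_conj] at hβ
      have hd : orderOf x ∣ 64561751654400 := by rw [← hcard]; exact orderOf_dvd_natCard x
      rcases prime_cases hβ hd with h | h | h | h | h | h
      · have hxx : x * x = 1 := by rw [← pow_two, ← h, pow_orderOf_eq_one]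
        rcases K.inv x hxx with h1 | h1 | ⟨a, ha, b, hb, hab, cab, rfl⟩ |
          ⟨a, ha, b, hb, c, hc, hab, hac, hbc, cab, cac, cbc, rfl⟩
        · rw [h1, orderOf_one] at h
          norm_num at h
        · obtain ⟨a, ha, hok⟩ := i1
          obtain ⟨g, hg⟩ := K.trans a ha x h1
          exact Ok.of_elt hok hg
        · obtain ⟨a', ha', b', hb', hab', cab', hok⟩ := i2
          obtain ⟨g, hg1, hg2⟩ := K.trans2 a' ha' b' hb' a ha b hb hab' hab cab' cab
          refine Ok.of_elt hok (g := g) ?_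
          rw [← hg1, ← hg2]; group
        · obtain ⟨a', ha', b', hb', c', hc', hab', hac', hbc', cab', cac', cbc', hok⟩ := i3
          obtain ⟨g, hg1, hg2, hg3⟩ := K.trans3 a' ha' b' hb' c' hc' a ha b hb c hc hab' hac' hbc' hab hac hbc
            cab' cac' cbc' cab cac cbc
          refine Ok.of_elt hok (g := g) ?_
          rw [← hg1, ← hg2, ← hg3]; group
      · exact h3 x h
      · obtain ⟨x0, hx0, hok⟩ := h5
        obtain ⟨g, hg⟩ := Cfsg.Agent.H835.Five.conj_five I (Subgroup.zpowers x0) (Subgroup.zpowers x)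
          (by rw [Nat.card_zpowers, hx0]) (by rw [Nat.card_zpowers, h])
        exact Ok.of_map hok hg
      · obtain ⟨x0, hx0, hok⟩ := h7
        obtain ⟨g, hg⟩ := Cfsg.Agent.H836.Main.conj_all I (Or.inl rfl) (Subgroup.zpowers x0) (Subgroup.zpowers x)
          (by rw [Nat.card_zpowers, hx0]) (by rw [Nat.card_zpowers, h])
        exact Ok.of_map hok hg
      · obtain ⟨x0, hx0, hok⟩ := h11
        obtain ⟨g, hg⟩ := Cfsg.Agent.H836.Main.conj_all I (Or.inr (Or.inl rfl)) (Subgroup.zpowers x0)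
          (Subgroup.zpowers x) (by rw [Nat.card_zpowers, hx0]) (by rw [Nat.card_zpowers, h])
        exact Ok.of_map hok hg
      · obtain ⟨x0, hx0, hok⟩ := h13
        obtain ⟨g, hg⟩ := Cfsg.Agent.H836.Main.conj_all I (Or.inr (Or.inr rfl)) (Subgroup.zpowers x0)
          (Subgroup.zpowers x) (by rw [Nat.card_zpowers, hx0]) (by rw [Nat.card_zpowers, h])
        exact Ok.of_map hok hg
    · have hne : ∀ x, β ≠ MulAut.conj x := fun x hx => hin ⟨x, hx.symm⟩
      obtain ⟨x, hx⟩ := K.out β β hne hne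
      have h2 : orderOf β = 2 := by
        rcases hβ.eq_two_or_odd' with h | h
        · exact h
        · exfalso
          obtain ⟨m, hm⟩ := h
          apply hne (x ^ (m + 1))
          have h1 : β ^ (2 * m + 1) = 1 := by rw [← hm]; exact pow_orderOf_eq_one β
          rw [map_pow, ← hx, ← pow_two, ← pow_mul]
          have e : 2 * (m + 1) = (2 * m + 1) + 1 := by ring
          rw [e, pow_succ, h1, one_mul]
      rcases Cfsg.Agent.H830.OutInv22.outer_inv β h2 hin with h | h | h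
      · exact Ok.conj' o1 h.symm
      · exact Ok.conj' o2 h.symm
      · exact Ok.conj' o3 h.symm
  obtain ⟨y, hy, hOk⟩ := h13
  have h132 : ¬ 13 ^ 2 ∣ Nat.card Spor.Fi22 := by rw [hcard]; norm_num
  refine ⟨13, 1, y, GoodW.of_exc Cfsg.Agent.StdFi22.MainFi22.not_comm (by norm_num) hy h132
    (InnAt.of_out (by norm_num) (by rw [Cfsg.Agent.S2079.result]; norm_num)) ?_⟩
  intro β hβ
  obtain ⟨z, hz, hns⟩ := hprime β hβ
  have : Fact (Nat.Prime 13) := ⟨by norm_num⟩
  obtain ⟨g, hg⟩ := exists_conj (r := 13) (a := 1) (b := 1) (y := y) (by rw [hy, pow_one]) h132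
    (s := z) (by rw [hz, pow_one])
  refine ⟨g, fun hs' => hns (solvable_mono ?_ hs')⟩
  rw [Subgroup.closure_le]
  rintro x (rfl | rfl)
  · obtain ⟨k, hk⟩ := Subgroup.mem_zpowers_iff.1 hg
    have h1 : MulAut.conj (g * y * g⁻¹) ∈
        Subgroup.closure ({MulAut.conj (g * y * g⁻¹), β} : Set (MulAut Spor.Fi22)) :=
      Subgroup.subset_closure (Or.inl rfl)
    have h2 := Subgroup.zpow_mem _ h1 k
    rw [← map_zpow, hk] at h2
    exact h2
  · exact Subgroup.subset_closure (Or.inr rfl)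

/-! ### the generators -/

theorem gen_comm {x y : Spor.Fi22.Gen} (hl : coxLabel Spor.Fi22.edges x y = 2) : gen x * gen y = gen y * gen x := by
  have h := gen_cox x y
  rw [hl, pow_two] at h
  have h5 := eq_inv_of_mul_eq_one_left h
  rw [h5, mul_inv_rev, inv_eq_of_mul_eq_one_left (gen_sq x), inv_eq_of_mul_eq_one_left (gen_sq y)]

theorem ac_ne : gen .a ≠ gen .c := by
  intro h
  have h1 : gen .d = gen .a := gen_chain (x := .d) (y := .c) (by decide) (by decide) h.symm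
  have h2 : gen .e = gen .a := gen_chain (x := .e) (y := .d) (by decide) (by decide) h1
  have h3 : gen .b = gen .e := gen_chain (x := .b) (y := .c) (by decide) (by decide) (by rw [← h, h2])
  apply Cfsg.Agent.Fischer.Fi22Order.ab_ne
  rw [h3, h2]

theorem ae_ne : gen .a ≠ gen .e := by
  intro h
  have h1 : gen .d = gen .a := gen_chain (x := .d) (y := .e) (by decide) (by decide) h.symm
  have h2 : gen .c = gen .a := gen_chain (x := .c) (y := .d) (by decide) (by decide) h1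
  exact ac_ne h2.symm

theorem ce_ne : gen .c ≠ gen .e := by
  intro h
  have h1 : gen .b = gen .e := gen_chain (x := .b) (y := .c) (by decide) (by decide) h
  have h2 : gen .a = gen .e := gen_chain (x := .a) (y := .b) (by decide) (by decide) h1
  exact ae_ne h2

/-- **The row**, for explicit representatives. -/
theorem good_fi22'
    (i1 : Ok (MulAut.conj (gen .d)))
    (i2 : Ok (MulAut.conj (gen .d * gen .i)))
    (i3 : Ok (MulAut.conj (gen .a * gen .c * gen .e)))
    (o1 : Ok flipA) (o2 : Ok (flipA * MulAut.conj (gen .d))) (o3 : Ok (flipA * MulAut.conj (gen .d * gen .i)))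
    (h3 : ∀ x : Spor.Fi22, orderOf x = 3 → Ok (MulAut.conj x))
    (h5 : ∃ x : Spor.Fi22, orderOf x = 5 ∧ Ok (MulAut.conj x))
    (h7 : ∃ x : Spor.Fi22, orderOf x = 7 ∧ Ok (MulAut.conj x))
    (h11 : ∃ x : Spor.Fi22, orderOf x = 11 ∧ Ok (MulAut.conj x))
    (h13 : ∃ x : Spor.Fi22, orderOf x = 13 ∧ Ok (MulAut.conj x)) : HasGoodW Spor.Fi22 :=
  good_fi22 ⟨_, gen_mem .d, i1⟩ ⟨_, gen_mem .d, _, gen_mem .i, di_ne, di_comm, i2⟩
    ⟨_, gen_mem .a, _, gen_mem .c, _, gen_mem .e, ac_ne, ae_ne, ce_ne, gen_comm (by decide), gen_comm (by decide),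
      gen_comm (by decide), i3⟩ o1 o2 o3 h3 h5 h7 h11 h13

end Cfsg.Agent.H69.Fi22Row
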