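import Cfsg.Agent.H69.OctGeo
import Cfsg.Agent.H235.ExtOut

/-!
# Five degrees for a group with a normal subgroup acting on a generalized octagon (helper69)
-/

set_option autoImplicit false
set_option linter.unusedSectionVars false

namespace Cfsg.Agent.H69.OctFive

open Cfsg Cfsg.Agent.Tits.Core Cfsg.Agent.Tits.Core.Bldg Cfsg.Agent.Tits.Exchange Cfsg.Agent.Tits
open Cfsg.Agent.FixBN Cfsg.Agent.Tits.OfBN Cfsg.Agent.Schreier.BNSch
open Cfsg.Agent.Omega.ML.LieRow Cfsg.Agent.UGT.U2.FOne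
open MulAction

universe u

variable {I : Type*} {M : CoxeterMatrix I} {W : Type*} [Group W] {cs : CoxeterSystem M W} {C : Type*}
  {Δ : Bldg cs C} {G : Type u} [Group G] {T : Subgroup G} [MulAction T C] {r : ℕ} (S : Sys Δ T r)
  [F : OppRes.Cox cs] (A : HAct Δ T)

include S

/-- the types are fixed if the panels have different sizes -/
theorem σ_eq [Finite G] [Finite C] (hth : Δ.Thick) {i j : I} (hI : ∀ k, k = i ∨ k = j) {qi qj : ℕ}
    (hqi : ∀ x, Nat.card (Δ.Pan i x) = qi + 1) (hqj : ∀ x, Nat.card (Δ.Pan j x) = qj + 1) (hne : qi ≠ qj)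
    (c : C) (g : G) (k : I) : A.σ g k = k := by
  have key : ∀ l : I, Nat.card (Δ.Pan (A.σ g l) (A.θ g c)) = Nat.card (Δ.Pan l c) := by
    intro l
    have f1 : ∀ x ∈ Δ.Pan l c, A.θ g x ∈ Δ.Pan (A.σ g l) (A.θ g c) := by
      rintro x (h | h)
      · exact Or.inl (by rw [h])
      · right
        rw [A.δ_θ, h, A.φ_simple]
    have f2 : ∀ x ∈ Δ.Pan (A.σ g l) (A.θ g c), A.θ g⁻¹ x ∈ Δ.Pan l c := by
      rintro x (h | h)
      · exact Or.inl (by rw [h, A.θ_inv_θ])
      · right
        apply (A.φ g).injective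
        rw [← A.δ_θ, A.θ_θ_inv, h, A.φ_simple]
    exact (Nat.card_congr
      { toFun := fun x : ↥(Δ.Pan l c) => (⟨A.θ g x, f1 x x.2⟩ : ↥(Δ.Pan (A.σ g l) (A.θ g c)))
        invFun := fun x : ↥(Δ.Pan (A.σ g l) (A.θ g c)) => (⟨A.θ g⁻¹ x, f2 x x.2⟩ : ↥(Δ.Pan l c))
        left_inv := fun x => Subtype.ext (A.θ_inv_θ g x)
        right_inv := fun x => Subtype.ext (A.θ_θ_inv g x) }).symm
  have h1 := key i
  have h2 := key j
  rw [hqi] at h1
  rw [hqj] at h2
  rcases hI k with rfl | rfl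
  · rcases hI (A.σ g k) with h | h
    · exact h
    · rw [h, hqj] at h1
      omega
  · rcases hI (A.σ g k) with h | h
    · rw [h, hqi] at h2
      omega
    · exact h

omit S [MulAction ↥T C] F in
theorem num {q : ℕ} (hq : 8 ≤ q) : (1 + q) * ((1 + q ^ 3) * (1 + q ^ 6)) ≤ 2 * q ^ 10 ∧
    7 * ((1 + q) * ((1 + q ^ 3) * (1 + q ^ 6))) < (1 + q ^ 2) * ((1 + q ^ 3) * (1 + q ^ 6)) ∧
    (1 + q ^ 2) * ((1 + q ^ 3) * (1 + q ^ 6)) ≤ q ^ 12 := by
  obtain ⟨a, rfl⟩ := Nat.exists_eq_add_of_le hq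
  have h2 := Nat.zero_le (a ^ 2)
  have h3 := Nat.zero_le (a ^ 3)
  have h4 := Nat.zero_le (a ^ 4)
  have h5 := Nat.zero_le (a ^ 5)
  have h6 := Nat.zero_le (a ^ 6)
  have h7 := Nat.zero_le (a ^ 7)
  have h8 := Nat.zero_le (a ^ 8)
  have h9 := Nat.zero_le (a ^ 9)
  have h10 := Nat.zero_le (a ^ 10)
  have h11 := Nat.zero_le (a ^ 11)
  have h12 := Nat.zero_le (a ^ 12)
  refine ⟨?_, ?_, ?_⟩ <;> ring_nf <;> linarith

include A

/-- **Five degrees**, panels of size `q² + 1` and `q + 1`. -/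
theorem five [T.Normal] [IsSimpleGroup T] [Finite G] [Finite C] [Finite W] [Fact r.Prime] (hth : Δ.Thick)
    (hna : ¬ IsMulCommutative T) {i j : I} (hI : ∀ k, k = i ∨ k = j) {q : ℕ} (hq : 8 ≤ q)
    (hqi : ∀ x, Nat.card (Δ.Pan i x) = q ^ 2 + 1) (hqj : ∀ x, Nat.card (Δ.Pan j x) = q + 1)
    (hW : Nat.card W = 16) (hC : Nat.card C = (1 + q) * (1 + q ^ 2) * ((1 + q ^ 3) * (1 + q ^ 6)))
    (c : C) (hU : Nat.card (S.U c) = q ^ 12) (hQ : q ^ 12 ∈ charDegrees G) : 5 ≤ (charDegrees G).ncard := by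
  classical
  have hne : q ^ 2 ≠ q := by nlinarith
  have hσ := fun g k => σ_eq S A hth hI hqi hqj hne c g k
  have hJ : ∀ l : I, A.Inv {l} := by
    intro l g k hk
    rw [hσ]
    exact hk
  set N := (1 + q ^ 3) * (1 + q ^ 6) with hN
  obtain ⟨n1, n2, n3⟩ := num hq
  rw [← hN] at n1 n2 n3
  have hres : ∀ (l : I) (x : C), Δ.Res {l} x = Δ.Pan l x := by
    intro l x
    ext y
    constructor
    · intro hy
      rcases H410.BldgAS.mem_WJ_singleton hy with h | h
      · exact Or.inl ((Δ.eq_one _ _).1 h).symm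
      · exact Or.inr h
    · rintro (rfl | h)
      · show Δ.δ y y ∈ WJ cs {l}
        rw [Δ.δ_self]; exact one_mem _
      · show Δ.δ x y ∈ WJ cs {l}
        rw [h]; exact simple_mem_WJ cs (Set.mem_singleton l)
  -- the degrees
  have c1 : Nat.card (G ⧸ HAct.Stb {i} (hJ i) c) = (1 + q) * N := by
    have h1 := OctGeo.index_mul S A hth (hJ i) c
    rw [hres, hqi, hC] at h1
    apply Nat.eq_of_mul_eq_mul_right (show 0 < q ^ 2 + 1 by positivity)
    rw [← Subgroup.index_eq_card, h1]
    ring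
  have c2 : Nat.card (G ⧸ HAct.Stb {j} (hJ j) c) = (1 + q ^ 2) * N := by
    have h1 := OctGeo.index_mul S A hth (hJ j) c
    rw [hres, hqj, hC] at h1
    apply Nat.eq_of_mul_eq_mul_right (show 0 < q + 1 by positivity)
    rw [← Subgroup.index_eq_card, h1]
    ring
  have hTc : T ≤ commutator G := by
    have h1 : commutator T = ⊤ := H235.ExtOut.commutator_eq_top hna
    have h2 : (commutator T).map T.subtype ≤ commutator G := by
      rw [commutator_def, Subgroup.map_commutator]
      exact Subgroup.commutator_mono le_top le_top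
    rw [h1, ← MonoidHom.range_eq_map, Subgroup.range_subtype] at h2
    exact h2
  set X := HAct.Stb {i} (hJ i) c with hX
  set Y := HAct.Stb {j} (hJ j) c with hY
  have hT1 : IsPretransitive T (G ⧸ X) := OctGeo.transT S A hth (hJ i) c
  refine OctChar.five T hTc (Ω₁ := G ⧸ X) (Ω₂ := G ⧸ Y) hT1 inferInstance ((1 : G) : G ⧸ X) ((1 : G) : G ⧸ Y)
    (r := 7) (Q := q ^ 12) ?_ ?_ ?_ ?_ hQ
  · have h2 := OctGeo.index_WJ (cs := cs) S j
    refine le_trans (OctGeo.rank_le S A hth (hJ j) c) ?_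
    omega
  · -- the subdegrees are not equal
    by_contra hcon
    push Not at hcon
    obtain ⟨f, hf⟩ := hcon
    set α : G ⧸ X := ((1 : G) : G ⧸ X) with hα
    obtain ⟨b, hb⟩ : ∃ b : G ⧸ X, Nat.card (S.U c) ≤ Nat.card (orbit (stabilizer G α) b) * q ^ 2 :=
      OctGeo.card_U_le S A hth (hJ i) c hqi
    rw [hU] at hb
    have hbα : b ≠ α := by
      intro hbα
      have h1 : Nat.card (orbit (stabilizer G α) α) = 1 := by
        rw [Nat.card_eq_one_iff_unique]
        refine ⟨⟨fun x y => ?_⟩, ⟨⟨α, mem_orbit_self α⟩⟩⟩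
        obtain ⟨x, g, rfl⟩ := x
        obtain ⟨y, h, rfl⟩ := y
        exact Subtype.ext ((g.2 : (g : G) • α = α).trans (h.2 : (h : G) • α = α).symm)
      have h3 : q ^ 12 ≤ 1 * q ^ 2 := by
        rw [← h1]
        rw [hbα] at hb
        exact hb
      have h2 : q ^ 2 < q ^ 12 := Nat.pow_lt_pow_right (by omega) (by norm_num)
      omega
    have hfq : q ^ 10 ≤ f := by
      have hb : q ^ 12 ≤ f * q ^ 2 := by
        rw [← hf b hbα]
        exact hb
      have h1 : q ^ 12 = q ^ 10 * q ^ 2 := by ring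
      rw [h1] at hb
      exact Nat.le_of_mul_le_mul_right hb (by positivity)
    have hone : ∀ x : G ⧸ X, x ≠ α → x ∈ orbit (stabilizer G α) b := by
      intro x hx
      by_contra hxb
      have hd : Disjoint (orbit (stabilizer G α) b) (orbit (stabilizer G α) x) := by
        rw [Set.disjoint_iff_inter_eq_empty, Set.eq_empty_iff_forall_notMem]
        rintro y ⟨h1, h2⟩
        apply hxb
        rw [← orbit_eq_iff] at h1 h2 ⊢
        rw [← h2, h1]
      have hα' : ∀ y, y ≠ α → α ∉ orbit (stabilizer G α) y := by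
        rintro y hy ⟨g, hg⟩
        apply hy
        have h1 : (g : G) • y = α := hg
        have h2 : (g : G) • α = α := g.2
        exact smul_left_cancel (g : G) (h1.trans h2.symm)
      have h1 : (insert α (orbit (stabilizer G α) b ∪ orbit (stabilizer G α) x)).ncard ≤ Nat.card (G ⧸ X) := by
        rw [← Set.ncard_univ]
        exact Set.ncard_le_ncard (Set.subset_univ _) (Set.toFinite _)
      rw [Set.ncard_insert_of_notMem (by
        rintro (h | h)
        · exact hα' b hbα h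
        · exact hα' x hx h) (Set.toFinite _), Set.ncard_union_eq hd (Set.toFinite _) (Set.toFinite _),
        ← Nat.card_coe_set_eq, ← Nat.card_coe_set_eq, c1] at h1
      have h2 : f + f + 1 ≤ (1 + q) * N := by
        have e1 : Nat.card (orbit (stabilizer G α) b) = f := hf b hbα
        have e2 : Nat.card (orbit (stabilizer G α) x) = f := hf x hx
        calc f + f + 1 = Nat.card (orbit (stabilizer G α) b) + Nat.card (orbit (stabilizer G α) x) + 1 := by
              rw [e1, e2]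
          _ ≤ (1 + q) * N := h1
      omega
    have h2t : IsMultiplyPretransitive G (G ⧸ X) 2 := by
      rw [is_two_pretransitive_iff]
      intro x y z w hxy hzw
      -- move `x`, `z` to `α`
      obtain ⟨g, hg⟩ := exists_smul_eq G x α
      obtain ⟨h, hh⟩ := exists_smul_eq G z α
      have hgy : g • y ≠ α := fun e => hxy (smul_left_cancel g (hg.trans e.symm))
      have hhw : h • w ≠ α := fun e => hzw (smul_left_cancel h (hh.trans e.symm))
      have h1 := hone _ hgy
      have h2 := hone _ hhw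
      rw [← orbit_eq_iff] at h1
      rw [← h1] at h2
      obtain ⟨k, hk⟩ := h2
      have hk' : (k : G) • g • y = h • w := hk
      have hkα : (k : G) • α = α := k.2
      refine ⟨h⁻¹ * (k : G) * g, ?_, ?_⟩
      · rw [mul_smul, mul_smul, hg, hkα, inv_smul_eq_iff, hh]
      · rw [mul_smul, mul_smul, hk', inv_smul_smul]
    have hUle : S.U c ≤ stabilizer ↥T α := by
      intro u hu
      rw [mem_stabilizer_iff]
      show (((u : G) * 1 : G) : G ⧸ X) = (1 : G)
      rw [mul_one, eq_comm, QuotientGroup.eq, inv_one, one_mul, hX, HAct.mem_Stb, A.θ_K, S.fix c _ hu, Δ.δ_self]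
      exact one_mem _
    have hne_top : stabilizer ↥T α ≠ ⊤ := by
      intro h1
      obtain ⟨t, ht⟩ := hT1.exists_smul_eq α b
      have h2 : t ∈ stabilizer ↥T α := by rw [h1]; exact Subgroup.mem_top t
      exact hbα (ht.symm.trans h2)
    have : Nonempty I := ⟨i⟩
    have h10 := H410.BldgAS.card_le_ten S A hth h2t hUle hne_top hI
    omega
  · rw [c1, c2]
    omega
  · rw [c2]
    exact n3

end Cfsg.Agent.H69.OctFive
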