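import Cfsg.Agent.H410.BldgAS
import Cfsg.Agent.Tits.Opp
import Cfsg.Agent.H69.OctChar

/-!
# The action on the cosets of a maximal parabolic subgroup (helper69)

`T ⊴ G` acts on a building `Δ` (`FixBN.Sys Δ T r`, `HAct Δ T`), `J` an invariant type, `X = Stb J hJ c`.
-/

set_option autoImplicit false
set_option linter.unusedSectionVars false

namespace Cfsg.Agent.H69.OctGeo

open Cfsg Cfsg.Agent.Tits.Core Cfsg.Agent.Tits.Core.Bldg Cfsg.Agent.Tits.Exchange Cfsg.Agent.Tits
open Cfsg.Agent.FixBN Cfsg.Agent.Tits.OfBN Cfsg.Agent.Schreier.BNSch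
open Cfsg.Agent.Omega.ML.LieRow Cfsg.Agent.UGT.U2.FOne
open MulAction

variable {I : Type*} {M : CoxeterMatrix I} {W : Type*} [Group W] {cs : CoxeterSystem M W} {C : Type*}
  {Δ : Bldg cs C} {G : Type*} [Group G] {T : Subgroup G} [MulAction T C] {r : ℕ} (S : Sys Δ T r)
  [F : OppRes.Cox cs] (A : HAct Δ T)

/-- the action of `G` on the chambers -/
@[reducible] def act : MulAction G C where
  smul := A.θ
  one_smul := A.θ_one
  mul_smul g h x := A.θ_mul g h x

include S

theorem exists_θ (hth : Δ.Thick) (c y : C) : ∃ t : T, A.θ t c = y := by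
  obtain ⟨t, ht⟩ := exists_smul_top S hth c y
  exact ⟨t, by rw [A.θ_K, ht]⟩

/-- the index of the stabiliser of a residue -/
theorem index_mul [Finite G] [Finite C] (hth : Δ.Thick) {J : Set I} (hJ : A.Inv J) (c : C) :
    (HAct.Stb J hJ c).index * Nat.card (Δ.Res J c) = Nat.card C := by
  let _ := act A
  set X := HAct.Stb J hJ c with hX
  have h1 : stabilizer G c ≤ X := by
    intro g hg
    rw [hX, HAct.mem_Stb]
    have h2 : A.θ g c = c := hg
    rw [h2, Δ.δ_self]
    exact one_mem _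
  have h2 : orbit X c = Δ.Res J c := by
    ext y
    constructor
    · rintro ⟨⟨g, hg⟩, rfl⟩
      exact hg
    · intro hy
      obtain ⟨t, ht⟩ := exists_θ S A hth c y
      refine ⟨⟨t, ?_⟩, ht⟩
      rw [hX, HAct.mem_Stb, ht]
      exact hy
  have h3 : orbit G c = Set.univ := by
    rw [Set.eq_univ_iff_forall]
    intro y
    obtain ⟨t, ht⟩ := exists_θ S A hth c y
    exact ⟨t, ht⟩
  have h4 : stabilizer X c = (stabilizer G c).subgroupOf X := by
    ext x
    rfl
  have h5 := index_stabilizer (G := G) c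
  have h6 := index_stabilizer (G := X) c
  rw [h3, Set.ncard_univ] at h5
  rw [h2, h4, ← Nat.card_coe_set_eq] at h6
  have h7 := Subgroup.relIndex_mul_index h1
  rw [Subgroup.relIndex, h6, h5] at h7
  rw [mul_comm]
  exact h7

/-- `T` is transitive -/
theorem transT (hth : Δ.Thick) {J : Set I} (hJ : A.Inv J) (c : C) :
    IsPretransitive T (G ⧸ HAct.Stb J hJ c) := by
  have key : ∀ x : G ⧸ HAct.Stb J hJ c, ∃ t : T, t • ((1 : G) : G ⧸ HAct.Stb J hJ c) = x := by
    intro x
    induction x using QuotientGroup.induction_on with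
    | H g =>
      obtain ⟨t, ht⟩ := exists_θ S A hth c (A.θ g c)
      refine ⟨t, ?_⟩
      show (((t : G) * 1 : G) : G ⧸ HAct.Stb J hJ c) = g
      rw [mul_one, QuotientGroup.eq, HAct.mem_Stb, A.θ_mul, ← ht, A.θ_inv_θ, Δ.δ_self]
      exact one_mem _
  refine ⟨fun x y => ?_⟩
  obtain ⟨t, rfl⟩ := key x
  obtain ⟨t', rfl⟩ := key y
  exact ⟨t' * t⁻¹, by rw [mul_smul, inv_smul_smul]⟩

/-- two cosets in the same orbit of the stabiliser -/
theorem same_orbit (hth : Δ.Thick) {J : Set I} (hJ : A.Inv J) (c : C) {g h : G}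
    (hgh : Δ.δ c (A.θ g c) = Δ.δ c (A.θ h c)) :
    ∃ u ∈ HAct.Stb J hJ c, ((u * g : G) : G ⧸ HAct.Stb J hJ c) = h := by
  obtain ⟨u, hu, hux⟩ := S.exists_move hgh
  rw [← A.θ_K] at hux
  refine ⟨u, ?_, ?_⟩
  · rw [HAct.mem_Stb, A.θ_K, S.fix c u hu, Δ.δ_self]
    exact one_mem _
  · rw [QuotientGroup.eq, HAct.mem_Stb, A.θ_mul, ← hux, ← A.θ_mul (u : G) g c, A.θ_inv_θ, Δ.δ_self]
    exact one_mem _

/-- the rank is at most `|W : W_J|` -/
theorem rank_le [Finite W] (hth : Δ.Thick) {J : Set I} (hJ : A.Inv J) (c : C) :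
    Nat.card (orbitRel.Quotient (stabilizer G ((1 : G) : G ⧸ HAct.Stb J hJ c)) (G ⧸ HAct.Stb J hJ c)) ≤
      (WJ cs J).index := by
  set X := HAct.Stb J hJ c with hX
  have hst : ∀ u ∈ X, u ∈ stabilizer G ((1 : G) : G ⧸ X) := by
    intro u hu
    rw [mem_stabilizer_iff]
    show ((u * 1 : G) : G ⧸ X) = (1 : G)
    rw [mul_one, QuotientGroup.eq, mul_one]
    exact inv_mem hu
  -- representatives
  have hrep : ∀ w : W, ∃ g : G, Δ.δ c (A.θ g c) = w := by
    intro w
    obtain ⟨y, hy⟩ := Δ.exists_δ c w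
    obtain ⟨t, ht⟩ := exists_θ S A hth c y
    exact ⟨t, by rw [ht, hy]⟩
  choose rp hrp using hrep
  let q : G → orbitRel.Quotient (stabilizer G ((1 : G) : G ⧸ X)) (G ⧸ X) := fun g => Quotient.mk _ ((g : G) : G ⧸ X)
  have hq : ∀ g h : G, Δ.δ c (A.θ g c) = Δ.δ c (A.θ h c) → q g = q h := by
    intro g h hgh
    obtain ⟨u, hu, hux⟩ := same_orbit S A hth hJ c hgh
    apply Quotient.sound
    refine ⟨⟨u, hst u hu⟩⁻¹, ?_⟩
    show u⁻¹ • ((h : G) : G ⧸ X) = g
    rw [inv_smul_eq_iff, ← hux]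
    rfl
  have hcos : ∀ (g : G) (v : W), v ∈ WJ cs J → q g = q (rp (Δ.δ c (A.θ g c) * v)) := by
    intro g v hv
    obtain ⟨z, hz1, hz2⟩ := Opp.exists_mul Δ c (A.θ g c) v
    -- `z = θ (g k) c`
    obtain ⟨t, ht⟩ := exists_θ S A hth c z
    have h1 : ((t : G) : G ⧸ X) = (g : G) := by
      rw [eq_comm, QuotientGroup.eq, hX, HAct.mem_Stb, A.θ_mul, ht]
      have h2 : Δ.δ (A.θ g⁻¹ (A.θ g c)) (A.θ g⁻¹ z) ∈ WJ cs J := by
        rw [A.δ_θ, hz1]
        exact hJ.φ_mem g⁻¹ hv
      rwa [A.θ_inv_θ] at h2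
    have h3 : q g = q t := by
      show Quotient.mk _ _ = Quotient.mk _ _
      rw [h1]
    rw [h3]
    apply hq
    rw [hrp, ht, hz2]
  let f : W ⧸ WJ cs J → orbitRel.Quotient (stabilizer G ((1 : G) : G ⧸ X)) (G ⧸ X) :=
    Quotient.lift (fun w => q (rp w)) (by
      intro w w' hww
      have h1 : w⁻¹ * w' ∈ WJ cs J := QuotientGroup.leftRel_apply.1 hww
      show q (rp w) = q (rp w')
      rw [hcos (rp w) _ h1, hrp]
      congr 2
      group)
  have hf : Function.Surjective f := by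
    intro x
    induction x using Quotient.inductionOn with
    | _ x =>
      induction x using QuotientGroup.induction_on with
      | H g =>
        refine ⟨((Δ.δ c (A.θ g c) : W) : W ⧸ WJ cs J), ?_⟩
        show q (rp _) = q g
        apply hq
        rw [hrp]
  exact Nat.card_le_card_of_surjective f hf

/-- the index of a parabolic subgroup of rank one -/
theorem index_WJ [Finite W] (j : I) : (WJ cs {j}).index * 2 = Nat.card W := by
  have h1 : Nat.card (WJ cs {j}) = 2 := by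
    have hne : cs.simple j ≠ 1 := by
      intro h
      have := cs.length_simple j
      rw [h, cs.length_one] at this
      exact absurd this (by decide)
    have h2 : ((WJ cs {j} : Subgroup W) : Set W) = {1, cs.simple j} := by
      ext w
      constructor
      · exact fun hw => H410.BldgAS.mem_WJ_singleton hw
      · rintro (rfl | rfl)
        · exact one_mem _
        · exact simple_mem_WJ cs (Set.mem_singleton j)
    have h3 : Nat.card (WJ cs {j}) = ((WJ cs {j} : Subgroup W) : Set W).ncard := rfl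
    rw [h3, h2, Set.ncard_pair hne.symm]
  have h2 := (WJ cs {j}).card_mul_index
  rw [h1] at h2
  omega

/-- a large suborbit -/
theorem card_U_le [Finite G] [Finite C] [Finite W] (hth : Δ.Thick) {i : I} (hJ : A.Inv {i}) (c : C) {q : ℕ}
    (hq : ∀ x, Nat.card (Δ.Pan i x) = q + 1) :
    ∃ b : G ⧸ HAct.Stb {i} hJ c, Nat.card (S.U c) ≤
      Nat.card (orbit (stabilizer G ((1 : G) : G ⧸ HAct.Stb {i} hJ c)) b) * q := by
  obtain ⟨d, hd⟩ := Opp.exists_opp Δ c
  obtain ⟨t, ht⟩ := exists_θ S A hth c d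
  set X := HAct.Stb {i} hJ c with hX
  refine ⟨((t : G) : G ⧸ X), ?_⟩
  obtain ⟨e, he, hce, -⟩ := Opp.exists_nonopp Δ hd i
  set b : G ⧸ X := ((t : G) : G ⧸ X) with hb
  have h1 := (stabilizer (S.U c) b).card_mul_index
  rw [index_stabilizer] at h1
  have h2 : orbit (S.U c) b ⊆ orbit (stabilizer G ((1 : G) : G ⧸ X)) b := by
    rintro _ ⟨u, rfl⟩
    refine ⟨⟨((u : T) : G), ?_⟩, rfl⟩
    rw [mem_stabilizer_iff]
    show ((((u : T) : G) * 1 : G) : G ⧸ X) = (1 : G)
    rw [mul_one, eq_comm, QuotientGroup.eq, inv_one, one_mul, hX, HAct.mem_Stb, A.θ_K, S.fix c _ u.2, Δ.δ_self]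
    exact one_mem _
  have h3 : (orbit (S.U c) b).ncard ≤ Nat.card (orbit (stabilizer G ((1 : G) : G ⧸ X)) b) := by
    rw [Nat.card_coe_set_eq]
    exact Set.ncard_le_ncard h2 (Set.toFinite _)
  have h4 : Nat.card (stabilizer (S.U c) b) ≤ q := by
    -- `u ↦ u d` is injective with values in the panel of `d`, without `e`
    have hmem : ∀ u : stabilizer (S.U c) b, ((u : S.U c) : T) • d ∈ Δ.Pan i d \ {e} := by
      rintro ⟨u, hu⟩
      have h6 : ((((u : T) : G) * (t : G) : G) : G ⧸ X) = ((t : G) : G ⧸ X) := hu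
      rw [eq_comm, QuotientGroup.eq, hX, HAct.mem_Stb, A.θ_mul, A.θ_mul, ht, A.θ_K] at h6
      have h7 : Δ.δ (A.θ t c) (A.θ t (A.θ (t : G)⁻¹ ((u : T) • d))) ∈ WJ cs {i} := by
        rw [A.δ_θ]
        exact hJ.φ_mem t h6
      rw [A.θ_θ_inv, ht] at h7
      refine ⟨?_, ?_⟩
      · rcases H410.BldgAS.mem_WJ_singleton h7 with h8 | h8
        · exact Or.inl ((Δ.eq_one _ _).1 h8).symm
        · exact Or.inr h8
      · intro h8
        have h9 : (u : T) • d = e := h8
        have h10 := S.iso (u : T) c d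
        rw [h9, S.fix c _ u.2, hce, hd, eq_comm] at h10
        have h11 : cs.simple i = 1 := by
          have := h10.symm
          rwa [mul_eq_left] at this
        have := cs.length_simple i
        rw [h11, cs.length_one] at this
        exact absurd this (by decide)
    have hinj : Function.Injective fun u : stabilizer (S.U c) b => (⟨((u : S.U c) : T) • d, hmem u⟩ :
        ↥(Δ.Pan i d \ {e})) := by
      intro u v huv
      have h5 : ((u : S.U c) : T) • d = ((v : S.U c) : T) • d := congrArg Subtype.val huv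
      have h6 : (((v : S.U c) : T)⁻¹ * ((u : S.U c) : T)) • d = d := by
        rw [mul_smul, h5, inv_smul_smul]
      have h7 := S.free c d hd _ (mul_mem (inv_mem (v : S.U c).2) (u : S.U c).2) h6
      have h8 : ((v : S.U c) : T) = ((u : S.U c) : T) := inv_mul_eq_one.1 h7
      exact Subtype.ext (Subtype.ext h8.symm)
    have h5 := Nat.card_le_card_of_injective _ hinj
    have h6 : e ∈ Δ.Pan i d := Or.inr he
    rw [Nat.card_coe_set_eq, Set.ncard_sdiff_singleton_of_mem h6, ← Nat.card_coe_set_eq, hq d] at h5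
    exact h5
  rw [← h1, mul_comm]
  exact Nat.mul_le_mul h3 h4

end Cfsg.Agent.H69.OctGeo
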